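import Cfsg.Agent.H286.EP.CycSeven
import Cfsg.Agent.H59.EP.UBGenFin

/-!
# S3499-IV: the socle `Ω₈⁺(2)` in `PΩ₈⁺(q)`, `q ≥ 31` (helper286)

The bounds of helper173 and helper59: `|Q| < 2.5 · 10^39 < |PΩ₈⁺(31)|`.
-/

set_option autoImplicit false
set_option linter.unusedSectionVars false

namespace Cfsg.Agent.H286.EP

open Cfsg.Agent.H284 Cfsg.Agent.H419.EP Subgroup Cfsg.Agent.H59.EP

theorem not_comm_L : ¬ ∀ a b : Cfsg.POmega (ZMod 2) (Cfsg.quadFormPlus 4 (ZMod 2)), a * b = b * a := by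
  intro hcomm
  have hs : IsSimpleGroup (Cfsg.POmega (ZMod 2) (Cfsg.quadFormPlus 4 (ZMod 2))) :=
    Cfsg.Agent.S0296.result (F := ZMod 2) 4 le_rfl
  have hfin : Finite (Cfsg.POmega (ZMod 2) (Cfsg.quadFormPlus 4 (ZMod 2))) :=
    Nat.finite_of_card_ne_zero (by rw [card_L]; norm_num)
  let : CommGroup (Cfsg.POmega (ZMod 2) (Cfsg.quadFormPlus 4 (ZMod 2))) := { mul_comm := hcomm }
  have h1 : (Nat.card (Cfsg.POmega (ZMod 2) (Cfsg.quadFormPlus 4 (ZMod 2)))).Prime :=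
    IsSimpleGroup.prime_card
  rw [card_L] at h1
  norm_num at h1

/-- the value of the bound -/
theorem bound_val : 1 + ((([(2, 13), (3, 6), (5, 2), (7, 1)] : List (ℕ × ℕ)).map fun x => gal x.1 x.2).sum *
      ((([(2, 13), (3, 6), (5, 2), (7, 1)] : List (ℕ × ℕ)).map fun x => x.1 ^ x.2).prod / 6) +
        (([(2, 13), (3, 6), (5, 2), (7, 1)] : List (ℕ × ℕ)).map fun x => x.1 ^ x.2).prod ^ 2 / 60 +
        (([(2, 13), (3, 6), (5, 2), (7, 1)] : List (ℕ × ℕ)).map fun x => x.1 ^ x.2).prod ^ 3 / 12744000) *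
          (2 * (1045094400 / 6)) ≤ 2 * 10 ^ 31 := by
  decide +kernel

/-- the order of `PΩ₈⁺(q)`, `q ≥ 31` -/
theorem card_big {F : Type*} [Field F] [Fintype F] (hF : 31 ≤ Fintype.card F) :
    10 ^ 41 ≤ Nat.card (Cfsg.POmega F (Cfsg.quadFormPlus 4 F)) := by
  have h := Cfsg.Agent.S0293.result (F := F) rfl 4 (by norm_num)
  obtain ⟨q, hq⟩ : ∃ q, Fintype.card F = q := ⟨_, rfl⟩
  rw [hq] at h hF
  have hprod : ∏ i ∈ Finset.range (4 - 1), (q ^ (2 * (i + 1)) - 1) = (q ^ 2 - 1) * (q ^ 4 - 1) * (q ^ 6 - 1) := by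
    simp [Finset.prod_range_succ]
  rw [hprod] at h
  have h1 : Nat.gcd 4 (q ^ 4 - 1) ≤ 4 := Nat.gcd_le_left _ (by norm_num)
  have hk : ∀ k, 31 ^ k - 1 ≤ q ^ k - 1 := fun k => Nat.sub_le_sub_right (Nat.pow_le_pow_left hF k) 1
  have h2 : 31 ^ (4 * (4 - 1)) * (31 ^ 4 - 1) * ((31 ^ 2 - 1) * (31 ^ 4 - 1) * (31 ^ 6 - 1)) ≤
      q ^ (4 * (4 - 1)) * (q ^ 4 - 1) * ((q ^ 2 - 1) * (q ^ 4 - 1) * (q ^ 6 - 1)) :=
    Nat.mul_le_mul (Nat.mul_le_mul (Nat.pow_le_pow_left hF _) (hk 4)) (Nat.mul_le_mul (Nat.mul_le_mul (hk 2) (hk 4)) (hk 6))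
  rw [← h] at h2
  have h3 := h2.trans (Nat.mul_le_mul_right _ h1)
  have h4 : 4 * 10 ^ 41 ≤ 31 ^ (4 * (4 - 1)) * (31 ^ 4 - 1) * ((31 ^ 2 - 1) * (31 ^ 4 - 1) * (31 ^ 6 - 1)) := by
    norm_num
  omega

theorem kill_big {Q : Type*} [Group Q] [Finite Q] {A : Subgroup Q} {Γ : Subgroup (MulAut Q)} (h : EPT A Γ)
    (hsoc : HasSoc A (Cfsg.POmega (ZMod 2) (Cfsg.quadFormPlus 4 (ZMod 2)))) {F : Type*} [Field F] [Fintype F]
    (hF : 31 ≤ Fintype.card F) (e : Q ≃* Cfsg.POmega F (Cfsg.quadFormPlus 4 F)) : False := by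
  have hAd := card_A_dvd hsoc
  have hs : IsSimpleGroup Q := by
    haveI := Cfsg.Agent.S0296.result (F := F) 4 le_rfl
    exact e.isSimpleGroup
  have hab := fun (X : Subgroup Q) hXA hXn hXc =>
    hsoc.no_abelian (Cfsg.Agent.S0296.result (F := ZMod 2) 4 le_rfl) not_comm_L (K := X) hXA hXn hXc
  have h1 := EPT.index_le_gen_fin hs h hab [(2, 13), (3, 6), (5, 2), (7, 1)] (by norm_num) (by decide)
    (hAd.trans (by decide)) (by norm_num)
  have hAle : Nat.card A ≤ 1045094400 := Nat.le_of_dvd (by norm_num) hAd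
  have h2 : A.index ≤ 2 * 10 ^ 31 := by
    refine h1.trans (le_trans ?_ bound_val)
    apply Nat.add_le_add_left
    apply Nat.mul_le_mul_left
    exact Nat.mul_le_mul_left _ (Nat.div_le_div_right hAle)
  have h3 := A.card_mul_index
  have h4 := card_big hF
  rw [← Nat.card_congr e.toEquiv, ← h3] at h4
  have h5 := Nat.mul_le_mul hAle h2
  have h6 := h4.trans h5
  norm_num at h6

end Cfsg.Agent.H286.EP
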