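import Cfsg.Agent.H286.EP.PolySeven

/-!
# The certificates for `q = 7, 9, 17, 23, 25` (helper286, S3499-IV)

`P(ζ) = ω` with `ω` of order `l = 7, 13, 13, 79, 31`, compatible with the action of `(Z/7)^*`.
-/

set_option autoImplicit false

namespace Cfsg.Agent.H286.EP

/-- the sum modulo `p` -/
def addc (p : ℕ) (a b : Fin 7 → ℕ × ℕ) : Fin 7 → ℕ × ℕ := fun i => (((a i).1 + (b i).1) % p, ((a i).2 + (b i).2) % p)

theorem ev_addc {F M : Type*} [Field F] [Ring M] [Algebra F M] {p : ℕ} {θ : F} {z : M} (hp : (p : F) = 0)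
    (a b : Fin 7 → ℕ × ℕ) : ev θ z (addc p a b) = ev θ z a + ev θ z b := by
  simp only [ev, addc, cf]
  rw [← Finset.sum_add_distrib]
  refine Finset.sum_congr rfl fun i _ => ?_
  rw [cast_mod hp, cast_mod hp, ← add_smul]
  congr 1
  push_cast
  ring

theorem ev_X {F M : Type*} [Field F] [Ring M] [Algebra F M] (θ : F) (z : M) :
    ev θ z ![(0, 0), (1, 0), (0, 0), (0, 0), (0, 0), (0, 0), (0, 0)] = z := by
  simp [ev, cf, Fin.sum_univ_succ]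

theorem step {F M : Type*} [Field F] [Ring M] [Algebra F M] {p d : ℕ} {θ : F} {z : M} (hp : (p : F) = 0)
    (hθ : θ * θ = d) (hz : z ^ 7 = 1) {a b c : Fin 7 → ℕ × ℕ} {x : M} {m n : ℕ} (ea : x ^ m = ev θ z a)
    (eb : x ^ n = ev θ z b) (hc : conv p d a b = c) : x ^ (m + n) = ev θ z c := by
  rw [pow_add, ea, eb, ← ev_conv hp hθ hz, hc]

/-- the properties of a certificate -/
def CertM {F : Type*} [Field F] (M : Type*) [Ring M] [Algebra F M] (θ : F) (P : Fin 7 → ℕ × ℕ) (l t : ℕ) : Prop :=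
  ∀ z : M, z ^ 7 = 1 → ev θ z P ^ l = 1 ∧ ev θ z P * ev θ (z ^ 6) P = 1 ∧ ev θ (z ^ 3) P = ev θ z P ^ t

/-- the certificate for `p = 7`, `l = 7` -/
def PSeven : Fin 7 → ℕ × ℕ := ![(1, 0), (3, 0), (6, 0), (2, 0), (5, 0), (1, 0), (4, 0)]

theorem certSeven {F M : Type*} [Field F] [Ring M] [Algebra F M] (hp : ((7 : ℕ) : F) = 0) {θ : F}
    (hθ : θ * θ = ((0 : ℕ) : F)) : CertM M θ PSeven 7 5 := by
  intro z hz
  have e1 : ev θ z PSeven ^ 1 = ev θ z ![(1, 0), (3, 0), (6, 0), (2, 0), (5, 0), (1, 0), (4, 0)] := pow_one _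
  have c2 : conv 7 0 ![(1, 0), (3, 0), (6, 0), (2, 0), (5, 0), (1, 0), (4, 0)] ![(1, 0), (3, 0), (6, 0), (2, 0), (5, 0), (1, 0), (4, 0)] = ![(1, 0), (6, 0), (5, 0), (4, 0), (3, 0), (2, 0), (1, 0)] := by decide +kernel
  have e2 : ev θ z PSeven ^ 2 = ev θ z ![(1, 0), (6, 0), (5, 0), (4, 0), (3, 0), (2, 0), (1, 0)] := step hp hθ hz e1 e1 c2
  have c4 : conv 7 0 ![(1, 0), (6, 0), (5, 0), (4, 0), (3, 0), (2, 0), (1, 0)] ![(1, 0), (6, 0), (5, 0), (4, 0), (3, 0), (2, 0), (1, 0)] = ![(1, 0), (5, 0), (3, 0), (1, 0), (6, 0), (4, 0), (2, 0)] := by decide +kernel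
  have e4 : ev θ z PSeven ^ 4 = ev θ z ![(1, 0), (5, 0), (3, 0), (1, 0), (6, 0), (4, 0), (2, 0)] := step hp hθ hz e2 e2 c4
  have c5 : conv 7 0 ![(1, 0), (5, 0), (3, 0), (1, 0), (6, 0), (4, 0), (2, 0)] ![(1, 0), (3, 0), (6, 0), (2, 0), (5, 0), (1, 0), (4, 0)] = ![(1, 0), (1, 0), (2, 0), (3, 0), (4, 0), (5, 0), (6, 0)] := by decide +kernel
  have e5 : ev θ z PSeven ^ 5 = ev θ z ![(1, 0), (1, 0), (2, 0), (3, 0), (4, 0), (5, 0), (6, 0)] := step hp hθ hz e4 e1 c5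
  have c3 : conv 7 0 ![(1, 0), (6, 0), (5, 0), (4, 0), (3, 0), (2, 0), (1, 0)] ![(1, 0), (3, 0), (6, 0), (2, 0), (5, 0), (1, 0), (4, 0)] = ![(1, 0), (2, 0), (4, 0), (6, 0), (1, 0), (3, 0), (5, 0)] := by decide +kernel
  have e3 : ev θ z PSeven ^ 3 = ev θ z ![(1, 0), (2, 0), (4, 0), (6, 0), (1, 0), (3, 0), (5, 0)] := step hp hθ hz e2 e1 c3
  have c6 : conv 7 0 ![(1, 0), (2, 0), (4, 0), (6, 0), (1, 0), (3, 0), (5, 0)] ![(1, 0), (2, 0), (4, 0), (6, 0), (1, 0), (3, 0), (5, 0)] = ![(1, 0), (4, 0), (1, 0), (5, 0), (2, 0), (6, 0), (3, 0)] := by decide +kernel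
  have e6 : ev θ z PSeven ^ 6 = ev θ z ![(1, 0), (4, 0), (1, 0), (5, 0), (2, 0), (6, 0), (3, 0)] := step hp hθ hz e3 e3 c6
  have c7 : conv 7 0 ![(1, 0), (4, 0), (1, 0), (5, 0), (2, 0), (6, 0), (3, 0)] ![(1, 0), (3, 0), (6, 0), (2, 0), (5, 0), (1, 0), (4, 0)] = ![(1, 0), (0, 0), (0, 0), (0, 0), (0, 0), (0, 0), (0, 0)] := by decide +kernel
  have e7 : ev θ z PSeven ^ 7 = ev θ z ![(1, 0), (0, 0), (0, 0), (0, 0), (0, 0), (0, 0), (0, 0)] := step hp hθ hz e6 e1 c7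
  refine ⟨e7.trans (ev_one θ z), ?_, ?_⟩
  · rw [ev_pow hz 6 6 (by decide), ← ev_conv hp hθ hz]
    exact (congrArg (ev θ z) (show conv 7 0 PSeven (fun i => PSeven (6 * i)) = ![(1, 0), (0, 0), (0, 0), (0, 0), (0, 0), (0, 0), (0, 0)] by decide +kernel)).trans (ev_one θ z)
  · rw [ev_pow hz 3 5 (by decide)]
    exact (congrArg (ev θ z) (show (fun i => PSeven (5 * i)) = ![(1, 0), (1, 0), (2, 0), (3, 0), (4, 0), (5, 0), (6, 0)] by decide +kernel)).trans e5.symm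

/-- the certificate for `p = 3`, `l = 13` -/
def PNine : Fin 7 → ℕ × ℕ := ![(0, 0), (1, 2), (1, 1), (0, 1), (0, 2), (1, 2), (1, 1)]

theorem certNine {F M : Type*} [Field F] [Ring M] [Algebra F M] (hp : ((3 : ℕ) : F) = 0) {θ : F}
    (hθ : θ * θ = ((2 : ℕ) : F)) : CertM M θ PNine 13 10 := by
  intro z hz
  have e1 : ev θ z PNine ^ 1 = ev θ z ![(0, 0), (1, 2), (1, 1), (0, 1), (0, 2), (1, 2), (1, 1)] := pow_one _
  have c2 : conv 3 2 ![(0, 0), (1, 2), (1, 1), (0, 1), (0, 2), (1, 2), (1, 1)] ![(0, 0), (1, 2), (1, 1), (0, 1), (0, 2), (1, 2), (1, 1)] = ![(1, 0), (1, 0), (2, 1), (0, 2), (0, 1), (2, 2), (1, 0)] := by decide +kernel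
  have e2 : ev θ z PNine ^ 2 = ev θ z ![(1, 0), (1, 0), (2, 1), (0, 2), (0, 1), (2, 2), (1, 0)] := step hp hθ hz e1 e1 c2
  have c4 : conv 3 2 ![(1, 0), (1, 0), (2, 1), (0, 2), (0, 1), (2, 2), (1, 0)] ![(1, 0), (1, 0), (2, 1), (0, 2), (0, 1), (2, 2), (1, 0)] = ![(0, 0), (0, 1), (1, 1), (1, 1), (1, 2), (1, 2), (0, 2)] := by decide +kernel
  have e4 : ev θ z PNine ^ 4 = ev θ z ![(0, 0), (0, 1), (1, 1), (1, 1), (1, 2), (1, 2), (0, 2)] := step hp hθ hz e2 e2 c4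
  have c5 : conv 3 2 ![(0, 0), (0, 1), (1, 1), (1, 1), (1, 2), (1, 2), (0, 2)] ![(0, 0), (1, 2), (1, 1), (0, 1), (0, 2), (1, 2), (1, 1)] = ![(1, 0), (0, 1), (1, 0), (2, 2), (2, 1), (1, 0), (0, 2)] := by decide +kernel
  have e5 : ev θ z PNine ^ 5 = ev θ z ![(1, 0), (0, 1), (1, 0), (2, 2), (2, 1), (1, 0), (0, 2)] := step hp hθ hz e4 e1 c5
  have c10 : conv 3 2 ![(1, 0), (0, 1), (1, 0), (2, 2), (2, 1), (1, 0), (0, 2)] ![(1, 0), (0, 1), (1, 0), (2, 2), (2, 1), (1, 0), (0, 2)] = ![(0, 0), (1, 2), (0, 1), (1, 2), (1, 1), (0, 2), (1, 1)] := by decide +kernel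
  have e10 : ev θ z PNine ^ 10 = ev θ z ![(0, 0), (1, 2), (0, 1), (1, 2), (1, 1), (0, 2), (1, 1)] := step hp hθ hz e5 e5 c10
  have c3 : conv 3 2 ![(1, 0), (1, 0), (2, 1), (0, 2), (0, 1), (2, 2), (1, 0)] ![(0, 0), (1, 2), (1, 1), (0, 1), (0, 2), (1, 2), (1, 1)] = ![(0, 0), (1, 1), (0, 2), (1, 1), (1, 2), (0, 1), (1, 2)] := by decide +kernel
  have e3 : ev θ z PNine ^ 3 = ev θ z ![(0, 0), (1, 1), (0, 2), (1, 1), (1, 2), (0, 1), (1, 2)] := step hp hθ hz e2 e1 c3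
  have c6 : conv 3 2 ![(0, 0), (1, 1), (0, 2), (1, 1), (1, 2), (0, 1), (1, 2)] ![(0, 0), (1, 1), (0, 2), (1, 1), (1, 2), (0, 1), (1, 2)] = ![(1, 0), (2, 1), (0, 1), (1, 0), (1, 0), (0, 2), (2, 2)] := by decide +kernel
  have e6 : ev θ z PNine ^ 6 = ev θ z ![(1, 0), (2, 1), (0, 1), (1, 0), (1, 0), (0, 2), (2, 2)] := step hp hθ hz e3 e3 c6
  have c12 : conv 3 2 ![(1, 0), (2, 1), (0, 1), (1, 0), (1, 0), (0, 2), (2, 2)] ![(1, 0), (2, 1), (0, 1), (1, 0), (1, 0), (0, 2), (2, 2)] = ![(0, 0), (1, 1), (1, 2), (0, 2), (0, 1), (1, 1), (1, 2)] := by decide +kernel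
  have e12 : ev θ z PNine ^ 12 = ev θ z ![(0, 0), (1, 1), (1, 2), (0, 2), (0, 1), (1, 1), (1, 2)] := step hp hθ hz e6 e6 c12
  have c13 : conv 3 2 ![(0, 0), (1, 1), (1, 2), (0, 2), (0, 1), (1, 1), (1, 2)] ![(0, 0), (1, 2), (1, 1), (0, 1), (0, 2), (1, 2), (1, 1)] = ![(1, 0), (0, 0), (0, 0), (0, 0), (0, 0), (0, 0), (0, 0)] := by decide +kernel
  have e13 : ev θ z PNine ^ 13 = ev θ z ![(1, 0), (0, 0), (0, 0), (0, 0), (0, 0), (0, 0), (0, 0)] := step hp hθ hz e12 e1 c13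
  refine ⟨e13.trans (ev_one θ z), ?_, ?_⟩
  · rw [ev_pow hz 6 6 (by decide), ← ev_conv hp hθ hz]
    exact (congrArg (ev θ z) (show conv 3 2 PNine (fun i => PNine (6 * i)) = ![(1, 0), (0, 0), (0, 0), (0, 0), (0, 0), (0, 0), (0, 0)] by decide +kernel)).trans (ev_one θ z)
  · rw [ev_pow hz 3 5 (by decide)]
    exact (congrArg (ev θ z) (show (fun i => PNine (5 * i)) = ![(0, 0), (1, 2), (0, 1), (1, 2), (1, 1), (0, 2), (1, 1)] by decide +kernel)).trans e10.symm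

theorem neNine {F M : Type*} [Field F] [Ring M] [Algebra F M] (hp : ((3 : ℕ) : F) = 0) {θ : F}
    (hθ : θ * θ = ((2 : ℕ) : F)) {z : M} (hz : z ^ 7 = 1) (h : ev θ z PNine = 1) : z = 1 := by
  have h1 : addc 3 ![(2, 0), (1, 2), (1, 1), (0, 1), (0, 2), (1, 2), (1, 1)] ![(1, 0), (0, 0), (0, 0), (0, 0), (0, 0), (0, 0), (0, 0)] = PNine := by decide +kernel
  have h2 : ev θ z ![(2, 0), (1, 2), (1, 1), (0, 1), (0, 2), (1, 2), (1, 1)] = 0 := by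
    rw [← h1, ev_addc hp, ev_one] at h
    exact add_eq_right.1 h
  have h3 : conv 3 2 ![(2, 2), (1, 2), (0, 2), (0, 1), (0, 2), (0, 1), (0, 2)] ![(2, 0), (1, 2), (1, 1), (0, 1), (0, 2), (1, 2), (1, 1)] = ![(2, 0), (1, 0), (0, 0), (0, 0), (0, 0), (0, 0), (0, 0)] := by decide +kernel
  have h4 : ev θ z ![(2, 0), (1, 0), (0, 0), (0, 0), (0, 0), (0, 0), (0, 0)] = 0 := by rw [← h3, ev_conv hp hθ hz, h2, mul_zero]
  have h5 : addc 3 ![(2, 0), (1, 0), (0, 0), (0, 0), (0, 0), (0, 0), (0, 0)] ![(1, 0), (0, 0), (0, 0), (0, 0), (0, 0), (0, 0), (0, 0)] = ![(0, 0), (1, 0), (0, 0), (0, 0), (0, 0), (0, 0), (0, 0)] := by decide +kernel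
  rw [← ev_X θ z, ← h5, ev_addc hp, h4, ev_one, zero_add]

/-- the certificate for `p = 17`, `l = 13` -/
def PSeventeen : Fin 7 → ℕ × ℕ := ![(14, 0), (2, 0), (16, 0), (16, 0), (6, 0), (11, 0), (4, 0)]

theorem certSeventeen {F M : Type*} [Field F] [Ring M] [Algebra F M] (hp : ((17 : ℕ) : F) = 0) {θ : F}
    (hθ : θ * θ = ((0 : ℕ) : F)) : CertM M θ PSeventeen 13 4 := by
  intro z hz
  have e1 : ev θ z PSeventeen ^ 1 = ev θ z ![(14, 0), (2, 0), (16, 0), (16, 0), (6, 0), (11, 0), (4, 0)] := pow_one _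
  have c2 : conv 17 0 ![(14, 0), (2, 0), (16, 0), (16, 0), (6, 0), (11, 0), (4, 0)] ![(14, 0), (2, 0), (16, 0), (16, 0), (6, 0), (11, 0), (4, 0)] = ![(8, 0), (11, 0), (15, 0), (1, 0), (15, 0), (10, 0), (9, 0)] := by decide +kernel
  have e2 : ev θ z PSeventeen ^ 2 = ev θ z ![(8, 0), (11, 0), (15, 0), (1, 0), (15, 0), (10, 0), (9, 0)] := step hp hθ hz e1 e1 c2
  have c4 : conv 17 0 ![(8, 0), (11, 0), (15, 0), (1, 0), (15, 0), (10, 0), (9, 0)] ![(8, 0), (11, 0), (15, 0), (1, 0), (15, 0), (10, 0), (9, 0)] = ![(14, 0), (11, 0), (16, 0), (2, 0), (4, 0), (6, 0), (16, 0)] := by decide +kernel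
  have e4 : ev θ z PSeventeen ^ 4 = ev θ z ![(14, 0), (11, 0), (16, 0), (2, 0), (4, 0), (6, 0), (16, 0)] := step hp hθ hz e2 e2 c4
  have c3 : conv 17 0 ![(8, 0), (11, 0), (15, 0), (1, 0), (15, 0), (10, 0), (9, 0)] ![(14, 0), (2, 0), (16, 0), (16, 0), (6, 0), (11, 0), (4, 0)] = ![(14, 0), (6, 0), (2, 0), (11, 0), (16, 0), (4, 0), (16, 0)] := by decide +kernel
  have e3 : ev θ z PSeventeen ^ 3 = ev θ z ![(14, 0), (6, 0), (2, 0), (11, 0), (16, 0), (4, 0), (16, 0)] := step hp hθ hz e2 e1 c3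
  have c6 : conv 17 0 ![(14, 0), (6, 0), (2, 0), (11, 0), (16, 0), (4, 0), (16, 0)] ![(14, 0), (6, 0), (2, 0), (11, 0), (16, 0), (4, 0), (16, 0)] = ![(8, 0), (15, 0), (11, 0), (10, 0), (15, 0), (9, 0), (1, 0)] := by decide +kernel
  have e6 : ev θ z PSeventeen ^ 6 = ev θ z ![(8, 0), (15, 0), (11, 0), (10, 0), (15, 0), (9, 0), (1, 0)] := step hp hθ hz e3 e3 c6
  have c12 : conv 17 0 ![(8, 0), (15, 0), (11, 0), (10, 0), (15, 0), (9, 0), (1, 0)] ![(8, 0), (15, 0), (11, 0), (10, 0), (15, 0), (9, 0), (1, 0)] = ![(14, 0), (4, 0), (11, 0), (6, 0), (16, 0), (16, 0), (2, 0)] := by decide +kernel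
  have e12 : ev θ z PSeventeen ^ 12 = ev θ z ![(14, 0), (4, 0), (11, 0), (6, 0), (16, 0), (16, 0), (2, 0)] := step hp hθ hz e6 e6 c12
  have c13 : conv 17 0 ![(14, 0), (4, 0), (11, 0), (6, 0), (16, 0), (16, 0), (2, 0)] ![(14, 0), (2, 0), (16, 0), (16, 0), (6, 0), (11, 0), (4, 0)] = ![(1, 0), (0, 0), (0, 0), (0, 0), (0, 0), (0, 0), (0, 0)] := by decide +kernel
  have e13 : ev θ z PSeventeen ^ 13 = ev θ z ![(1, 0), (0, 0), (0, 0), (0, 0), (0, 0), (0, 0), (0, 0)] := step hp hθ hz e12 e1 c13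
  refine ⟨e13.trans (ev_one θ z), ?_, ?_⟩
  · rw [ev_pow hz 6 6 (by decide), ← ev_conv hp hθ hz]
    exact (congrArg (ev θ z) (show conv 17 0 PSeventeen (fun i => PSeventeen (6 * i)) = ![(1, 0), (0, 0), (0, 0), (0, 0), (0, 0), (0, 0), (0, 0)] by decide +kernel)).trans (ev_one θ z)
  · rw [ev_pow hz 3 5 (by decide)]
    exact (congrArg (ev θ z) (show (fun i => PSeventeen (5 * i)) = ![(14, 0), (11, 0), (16, 0), (2, 0), (4, 0), (6, 0), (16, 0)] by decide +kernel)).trans e4.symm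

theorem neSeventeen {F M : Type*} [Field F] [Ring M] [Algebra F M] (hp : ((17 : ℕ) : F) = 0) {θ : F}
    (hθ : θ * θ = ((0 : ℕ) : F)) {z : M} (hz : z ^ 7 = 1) (h : ev θ z PSeventeen = 1) : z = 1 := by
  have h1 : addc 17 ![(13, 0), (2, 0), (16, 0), (16, 0), (6, 0), (11, 0), (4, 0)] ![(1, 0), (0, 0), (0, 0), (0, 0), (0, 0), (0, 0), (0, 0)] = PSeventeen := by decide +kernel
  have h2 : ev θ z ![(13, 0), (2, 0), (16, 0), (16, 0), (6, 0), (11, 0), (4, 0)] = 0 := by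
    rw [← h1, ev_addc hp, ev_one] at h
    exact add_eq_right.1 h
  have h3 : conv 17 0 ![(5, 0), (4, 0), (7, 0), (6, 0), (16, 0), (6, 0), (7, 0)] ![(13, 0), (2, 0), (16, 0), (16, 0), (6, 0), (11, 0), (4, 0)] = ![(16, 0), (1, 0), (0, 0), (0, 0), (0, 0), (0, 0), (0, 0)] := by decide +kernel
  have h4 : ev θ z ![(16, 0), (1, 0), (0, 0), (0, 0), (0, 0), (0, 0), (0, 0)] = 0 := by rw [← h3, ev_conv hp hθ hz, h2, mul_zero]
  have h5 : addc 17 ![(16, 0), (1, 0), (0, 0), (0, 0), (0, 0), (0, 0), (0, 0)] ![(1, 0), (0, 0), (0, 0), (0, 0), (0, 0), (0, 0), (0, 0)] = ![(0, 0), (1, 0), (0, 0), (0, 0), (0, 0), (0, 0), (0, 0)] := by decide +kernel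
  rw [← ev_X θ z, ← h5, ev_addc hp, h4, ev_one, zero_add]

/-- the certificate for `p = 23`, `l = 79` -/
def PTwentyThree : Fin 7 → ℕ × ℕ := ![(4, 0), (10, 0), (7, 0), (20, 0), (17, 0), (9, 0), (3, 0)]

theorem certTwentyThree {F M : Type*} [Field F] [Ring M] [Algebra F M] (hp : ((23 : ℕ) : F) = 0) {θ : F}
    (hθ : θ * θ = ((0 : ℕ) : F)) : CertM M θ PTwentyThree 79 24 := by
  intro z hz
  have e1 : ev θ z PTwentyThree ^ 1 = ev θ z ![(4, 0), (10, 0), (7, 0), (20, 0), (17, 0), (9, 0), (3, 0)] := pow_one _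
  have c2 : conv 23 0 ![(4, 0), (10, 0), (7, 0), (20, 0), (17, 0), (9, 0), (3, 0)] ![(4, 0), (10, 0), (7, 0), (20, 0), (17, 0), (9, 0), (3, 0)] = ![(8, 0), (12, 0), (7, 0), (0, 0), (18, 0), (11, 0), (14, 0)] := by decide +kernel
  have e2 : ev θ z PTwentyThree ^ 2 = ev θ z ![(8, 0), (12, 0), (7, 0), (0, 0), (18, 0), (11, 0), (14, 0)] := step hp hθ hz e1 e1 c2
  have c3 : conv 23 0 ![(8, 0), (12, 0), (7, 0), (0, 0), (18, 0), (11, 0), (14, 0)] ![(4, 0), (10, 0), (7, 0), (20, 0), (17, 0), (9, 0), (3, 0)] = ![(18, 0), (14, 0), (5, 0), (15, 0), (12, 0), (15, 0), (14, 0)] := by decide +kernel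
  have e3 : ev θ z PTwentyThree ^ 3 = ev θ z ![(18, 0), (14, 0), (5, 0), (15, 0), (12, 0), (15, 0), (14, 0)] := step hp hθ hz e2 e1 c3
  have c6 : conv 23 0 ![(18, 0), (14, 0), (5, 0), (15, 0), (12, 0), (15, 0), (14, 0)] ![(18, 0), (14, 0), (5, 0), (15, 0), (12, 0), (15, 0), (14, 0)] = ![(7, 0), (19, 0), (6, 0), (22, 0), (9, 0), (3, 0), (4, 0)] := by decide +kernel
  have e6 : ev θ z PTwentyThree ^ 6 = ev θ z ![(7, 0), (19, 0), (6, 0), (22, 0), (9, 0), (3, 0), (4, 0)] := step hp hθ hz e3 e3 c6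
  have c12 : conv 23 0 ![(7, 0), (19, 0), (6, 0), (22, 0), (9, 0), (3, 0), (4, 0)] ![(7, 0), (19, 0), (6, 0), (22, 0), (9, 0), (3, 0), (4, 0)] = ![(12, 0), (21, 0), (8, 0), (19, 0), (10, 0), (20, 0), (3, 0)] := by decide +kernel
  have e12 : ev θ z PTwentyThree ^ 12 = ev θ z ![(12, 0), (21, 0), (8, 0), (19, 0), (10, 0), (20, 0), (3, 0)] := step hp hθ hz e6 e6 c12
  have c24 : conv 23 0 ![(12, 0), (21, 0), (8, 0), (19, 0), (10, 0), (20, 0), (3, 0)] ![(12, 0), (21, 0), (8, 0), (19, 0), (10, 0), (20, 0), (3, 0)] = ![(4, 0), (9, 0), (20, 0), (10, 0), (3, 0), (17, 0), (7, 0)] := by decide +kernel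
  have e24 : ev θ z PTwentyThree ^ 24 = ev θ z ![(4, 0), (9, 0), (20, 0), (10, 0), (3, 0), (17, 0), (7, 0)] := step hp hθ hz e12 e12 c24
  have c4 : conv 23 0 ![(8, 0), (12, 0), (7, 0), (0, 0), (18, 0), (11, 0), (14, 0)] ![(8, 0), (12, 0), (7, 0), (0, 0), (18, 0), (11, 0), (14, 0)] = ![(2, 0), (22, 0), (8, 0), (11, 0), (1, 0), (22, 0), (4, 0)] := by decide +kernel
  have e4 : ev θ z PTwentyThree ^ 4 = ev θ z ![(2, 0), (22, 0), (8, 0), (11, 0), (1, 0), (22, 0), (4, 0)] := step hp hθ hz e2 e2 c4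
  have c8 : conv 23 0 ![(2, 0), (22, 0), (8, 0), (11, 0), (1, 0), (22, 0), (4, 0)] ![(2, 0), (22, 0), (8, 0), (11, 0), (1, 0), (22, 0), (4, 0)] = ![(2, 0), (16, 0), (4, 0), (14, 0), (15, 0), (2, 0), (17, 0)] := by decide +kernel
  have e8 : ev θ z PTwentyThree ^ 8 = ev θ z ![(2, 0), (16, 0), (4, 0), (14, 0), (15, 0), (2, 0), (17, 0)] := step hp hθ hz e4 e4 c8
  have c9 : conv 23 0 ![(2, 0), (16, 0), (4, 0), (14, 0), (15, 0), (2, 0), (17, 0)] ![(4, 0), (10, 0), (7, 0), (20, 0), (17, 0), (9, 0), (3, 0)] = ![(9, 0), (15, 0), (5, 0), (2, 0), (5, 0), (10, 0), (1, 0)] := by decide +kernel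
  have e9 : ev θ z PTwentyThree ^ 9 = ev θ z ![(9, 0), (15, 0), (5, 0), (2, 0), (5, 0), (10, 0), (1, 0)] := step hp hθ hz e8 e1 c9
  have c18 : conv 23 0 ![(9, 0), (15, 0), (5, 0), (2, 0), (5, 0), (10, 0), (1, 0)] ![(9, 0), (15, 0), (5, 0), (2, 0), (5, 0), (10, 0), (1, 0)] = ![(1, 0), (0, 0), (5, 0), (20, 0), (11, 0), (6, 0), (4, 0)] := by decide +kernel
  have e18 : ev θ z PTwentyThree ^ 18 = ev θ z ![(1, 0), (0, 0), (5, 0), (20, 0), (11, 0), (6, 0), (4, 0)] := step hp hθ hz e9 e9 c18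
  have c19 : conv 23 0 ![(1, 0), (0, 0), (5, 0), (20, 0), (11, 0), (6, 0), (4, 0)] ![(4, 0), (10, 0), (7, 0), (20, 0), (17, 0), (9, 0), (3, 0)] = ![(1, 0), (11, 0), (0, 0), (6, 0), (5, 0), (4, 0), (20, 0)] := by decide +kernel
  have e19 : ev θ z PTwentyThree ^ 19 = ev θ z ![(1, 0), (11, 0), (0, 0), (6, 0), (5, 0), (4, 0), (20, 0)] := step hp hθ hz e18 e1 c19
  have c38 : conv 23 0 ![(1, 0), (11, 0), (0, 0), (6, 0), (5, 0), (4, 0), (20, 0)] ![(1, 0), (11, 0), (0, 0), (6, 0), (5, 0), (4, 0), (20, 0)] = ![(18, 0), (3, 0), (10, 0), (21, 0), (3, 0), (12, 0), (3, 0)] := by decide +kernel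
  have e38 : ev θ z PTwentyThree ^ 38 = ev θ z ![(18, 0), (3, 0), (10, 0), (21, 0), (3, 0), (12, 0), (3, 0)] := step hp hθ hz e19 e19 c38
  have c39 : conv 23 0 ![(18, 0), (3, 0), (10, 0), (21, 0), (3, 0), (12, 0), (3, 0)] ![(4, 0), (10, 0), (7, 0), (20, 0), (17, 0), (9, 0), (3, 0)] = ![(12, 0), (10, 0), (21, 0), (20, 0), (8, 0), (3, 0), (19, 0)] := by decide +kernel
  have e39 : ev θ z PTwentyThree ^ 39 = ev θ z ![(12, 0), (10, 0), (21, 0), (20, 0), (8, 0), (3, 0), (19, 0)] := step hp hθ hz e38 e1 c39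
  have c78 : conv 23 0 ![(12, 0), (10, 0), (21, 0), (20, 0), (8, 0), (3, 0), (19, 0)] ![(12, 0), (10, 0), (21, 0), (20, 0), (8, 0), (3, 0), (19, 0)] = ![(4, 0), (3, 0), (9, 0), (17, 0), (20, 0), (7, 0), (10, 0)] := by decide +kernel
  have e78 : ev θ z PTwentyThree ^ 78 = ev θ z ![(4, 0), (3, 0), (9, 0), (17, 0), (20, 0), (7, 0), (10, 0)] := step hp hθ hz e39 e39 c78
  have c79 : conv 23 0 ![(4, 0), (3, 0), (9, 0), (17, 0), (20, 0), (7, 0), (10, 0)] ![(4, 0), (10, 0), (7, 0), (20, 0), (17, 0), (9, 0), (3, 0)] = ![(1, 0), (0, 0), (0, 0), (0, 0), (0, 0), (0, 0), (0, 0)] := by decide +kernel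
  have e79 : ev θ z PTwentyThree ^ 79 = ev θ z ![(1, 0), (0, 0), (0, 0), (0, 0), (0, 0), (0, 0), (0, 0)] := step hp hθ hz e78 e1 c79
  refine ⟨e79.trans (ev_one θ z), ?_, ?_⟩
  · rw [ev_pow hz 6 6 (by decide), ← ev_conv hp hθ hz]
    exact (congrArg (ev θ z) (show conv 23 0 PTwentyThree (fun i => PTwentyThree (6 * i)) = ![(1, 0), (0, 0), (0, 0), (0, 0), (0, 0), (0, 0), (0, 0)] by decide +kernel)).trans (ev_one θ z)
  · rw [ev_pow hz 3 5 (by decide)]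
    exact (congrArg (ev θ z) (show (fun i => PTwentyThree (5 * i)) = ![(4, 0), (9, 0), (20, 0), (10, 0), (3, 0), (17, 0), (7, 0)] by decide +kernel)).trans e24.symm

theorem neTwentyThree {F M : Type*} [Field F] [Ring M] [Algebra F M] (hp : ((23 : ℕ) : F) = 0) {θ : F}
    (hθ : θ * θ = ((0 : ℕ) : F)) {z : M} (hz : z ^ 7 = 1) (h : ev θ z PTwentyThree = 1) : z = 1 := by
  have h1 : addc 23 ![(3, 0), (10, 0), (7, 0), (20, 0), (17, 0), (9, 0), (3, 0)] ![(1, 0), (0, 0), (0, 0), (0, 0), (0, 0), (0, 0), (0, 0)] = PTwentyThree := by decide +kernel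
  have h2 : ev θ z ![(3, 0), (10, 0), (7, 0), (20, 0), (17, 0), (9, 0), (3, 0)] = 0 := by
    rw [← h1, ev_addc hp, ev_one] at h
    exact add_eq_right.1 h
  have h3 : conv 23 0 ![(21, 0), (20, 0), (12, 0), (4, 0), (19, 0), (4, 0), (12, 0)] ![(3, 0), (10, 0), (7, 0), (20, 0), (17, 0), (9, 0), (3, 0)] = ![(22, 0), (1, 0), (0, 0), (0, 0), (0, 0), (0, 0), (0, 0)] := by decide +kernel
  have h4 : ev θ z ![(22, 0), (1, 0), (0, 0), (0, 0), (0, 0), (0, 0), (0, 0)] = 0 := by rw [← h3, ev_conv hp hθ hz, h2, mul_zero]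
  have h5 : addc 23 ![(22, 0), (1, 0), (0, 0), (0, 0), (0, 0), (0, 0), (0, 0)] ![(1, 0), (0, 0), (0, 0), (0, 0), (0, 0), (0, 0), (0, 0)] = ![(0, 0), (1, 0), (0, 0), (0, 0), (0, 0), (0, 0), (0, 0)] := by decide +kernel
  rw [← ev_X θ z, ← h5, ev_addc hp, h4, ev_one, zero_add]

/-- the certificate for `p = 5`, `l = 31` -/
def PTwentyFive : Fin 7 → ℕ × ℕ := ![(4, 0), (2, 3), (4, 0), (0, 1), (0, 4), (4, 0), (2, 2)]

theorem certTwentyFive {F M : Type*} [Field F] [Ring M] [Algebra F M] (hp : ((5 : ℕ) : F) = 0) {θ : F}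
    (hθ : θ * θ = ((2 : ℕ) : F)) : CertM M θ PTwentyFive 31 6 := by
  intro z hz
  have e1 : ev θ z PTwentyFive ^ 1 = ev θ z ![(4, 0), (2, 3), (4, 0), (0, 1), (0, 4), (4, 0), (2, 2)] := pow_one _
  have c2 : conv 5 2 ![(4, 0), (2, 3), (4, 0), (0, 1), (0, 4), (4, 0), (2, 2)] ![(4, 0), (2, 3), (4, 0), (0, 1), (0, 4), (4, 0), (2, 2)] = ![(1, 0), (4, 3), (2, 3), (4, 3), (4, 2), (2, 2), (4, 2)] := by decide +kernel
  have e2 : ev θ z PTwentyFive ^ 2 = ev θ z ![(1, 0), (4, 3), (2, 3), (4, 3), (4, 2), (2, 2), (4, 2)] := step hp hθ hz e1 e1 c2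
  have c3 : conv 5 2 ![(1, 0), (4, 3), (2, 3), (4, 3), (4, 2), (2, 2), (4, 2)] ![(4, 0), (2, 3), (4, 0), (0, 1), (0, 4), (4, 0), (2, 2)] = ![(3, 0), (1, 3), (4, 4), (4, 3), (4, 2), (4, 1), (1, 2)] := by decide +kernel
  have e3 : ev θ z PTwentyFive ^ 3 = ev θ z ![(3, 0), (1, 3), (4, 4), (4, 3), (4, 2), (4, 1), (1, 2)] := step hp hθ hz e2 e1 c3
  have c6 : conv 5 2 ![(3, 0), (1, 3), (4, 4), (4, 3), (4, 2), (4, 1), (1, 2)] ![(3, 0), (1, 3), (4, 4), (4, 3), (4, 2), (4, 1), (1, 2)] = ![(4, 0), (4, 0), (0, 1), (2, 3), (2, 2), (0, 4), (4, 0)] := by decide +kernel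
  have e6 : ev θ z PTwentyFive ^ 6 = ev θ z ![(4, 0), (4, 0), (0, 1), (2, 3), (2, 2), (0, 4), (4, 0)] := step hp hθ hz e3 e3 c6
  have c7 : conv 5 2 ![(4, 0), (4, 0), (0, 1), (2, 3), (2, 2), (0, 4), (4, 0)] ![(4, 0), (2, 3), (4, 0), (0, 1), (0, 4), (4, 0), (2, 2)] = ![(0, 0), (1, 4), (0, 3), (2, 3), (2, 2), (0, 2), (1, 1)] := by decide +kernel
  have e7 : ev θ z PTwentyFive ^ 7 = ev θ z ![(0, 0), (1, 4), (0, 3), (2, 3), (2, 2), (0, 2), (1, 1)] := step hp hθ hz e6 e1 c7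
  have c14 : conv 5 2 ![(0, 0), (1, 4), (0, 3), (2, 3), (2, 2), (0, 2), (1, 1)] ![(0, 0), (1, 4), (0, 3), (2, 3), (2, 2), (0, 2), (1, 1)] = ![(4, 0), (3, 2), (0, 1), (3, 4), (3, 1), (0, 4), (3, 3)] := by decide +kernel
  have e14 : ev θ z PTwentyFive ^ 14 = ev θ z ![(4, 0), (3, 2), (0, 1), (3, 4), (3, 1), (0, 4), (3, 3)] := step hp hθ hz e7 e7 c14
  have c15 : conv 5 2 ![(4, 0), (3, 2), (0, 1), (3, 4), (3, 1), (0, 4), (3, 3)] ![(4, 0), (2, 3), (4, 0), (0, 1), (0, 4), (4, 0), (2, 2)] = ![(3, 0), (4, 2), (1, 3), (4, 1), (4, 4), (1, 2), (4, 3)] := by decide +kernel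
  have e15 : ev θ z PTwentyFive ^ 15 = ev θ z ![(3, 0), (4, 2), (1, 3), (4, 1), (4, 4), (1, 2), (4, 3)] := step hp hθ hz e14 e1 c15
  have c30 : conv 5 2 ![(3, 0), (4, 2), (1, 3), (4, 1), (4, 4), (1, 2), (4, 3)] ![(3, 0), (4, 2), (1, 3), (4, 1), (4, 4), (1, 2), (4, 3)] = ![(4, 0), (2, 2), (4, 0), (0, 4), (0, 1), (4, 0), (2, 3)] := by decide +kernel
  have e30 : ev θ z PTwentyFive ^ 30 = ev θ z ![(4, 0), (2, 2), (4, 0), (0, 4), (0, 1), (4, 0), (2, 3)] := step hp hθ hz e15 e15 c30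
  have c31 : conv 5 2 ![(4, 0), (2, 2), (4, 0), (0, 4), (0, 1), (4, 0), (2, 3)] ![(4, 0), (2, 3), (4, 0), (0, 1), (0, 4), (4, 0), (2, 2)] = ![(1, 0), (0, 0), (0, 0), (0, 0), (0, 0), (0, 0), (0, 0)] := by decide +kernel
  have e31 : ev θ z PTwentyFive ^ 31 = ev θ z ![(1, 0), (0, 0), (0, 0), (0, 0), (0, 0), (0, 0), (0, 0)] := step hp hθ hz e30 e1 c31
  refine ⟨e31.trans (ev_one θ z), ?_, ?_⟩
  · rw [ev_pow hz 6 6 (by decide), ← ev_conv hp hθ hz]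
    exact (congrArg (ev θ z) (show conv 5 2 PTwentyFive (fun i => PTwentyFive (6 * i)) = ![(1, 0), (0, 0), (0, 0), (0, 0), (0, 0), (0, 0), (0, 0)] by decide +kernel)).trans (ev_one θ z)
  · rw [ev_pow hz 3 5 (by decide)]
    exact (congrArg (ev θ z) (show (fun i => PTwentyFive (5 * i)) = ![(4, 0), (4, 0), (0, 1), (2, 3), (2, 2), (0, 4), (4, 0)] by decide +kernel)).trans e6.symm

theorem neTwentyFive {F M : Type*} [Field F] [Ring M] [Algebra F M] (hp : ((5 : ℕ) : F) = 0) {θ : F}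
    (hθ : θ * θ = ((2 : ℕ) : F)) {z : M} (hz : z ^ 7 = 1) (h : ev θ z PTwentyFive = 1) : z = 1 := by
  have h1 : addc 5 ![(3, 0), (2, 3), (4, 0), (0, 1), (0, 4), (4, 0), (2, 2)] ![(1, 0), (0, 0), (0, 0), (0, 0), (0, 0), (0, 0), (0, 0)] = PTwentyFive := by decide +kernel
  have h2 : ev θ z ![(3, 0), (2, 3), (4, 0), (0, 1), (0, 4), (4, 0), (2, 2)] = 0 := by
    rw [← h1, ev_addc hp, ev_one] at h
    exact add_eq_right.1 h
  have h3 : conv 5 2 ![(3, 1), (2, 1), (0, 0), (0, 4), (0, 0), (0, 4), (0, 0)] ![(3, 0), (2, 3), (4, 0), (0, 1), (0, 4), (4, 0), (2, 2)] = ![(4, 0), (1, 0), (0, 0), (0, 0), (0, 0), (0, 0), (0, 0)] := by decide +kernel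
  have h4 : ev θ z ![(4, 0), (1, 0), (0, 0), (0, 0), (0, 0), (0, 0), (0, 0)] = 0 := by rw [← h3, ev_conv hp hθ hz, h2, mul_zero]
  have h5 : addc 5 ![(4, 0), (1, 0), (0, 0), (0, 0), (0, 0), (0, 0), (0, 0)] ![(1, 0), (0, 0), (0, 0), (0, 0), (0, 0), (0, 0), (0, 0)] = ![(0, 0), (1, 0), (0, 0), (0, 0), (0, 0), (0, 0), (0, 0)] := by decide +kernel
  rw [← ev_X θ z, ← h5, ev_addc hp, h4, ev_one, zero_add]

end Cfsg.Agent.H286.EP
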