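import Cfsg.Agent.H286.EP.CertSeven

/-!
# The certificate for `q = 7`: `P(z)` is no power of `z` (helper286, S3499-IV)
-/

set_option autoImplicit false

namespace Cfsg.Agent.H286.EP

theorem ev_ones {F M : Type*} [Field F] [Ring M] [Algebra F M] (θ : F) (z : M) :
    ev θ z ![(1, 0), (1, 0), (1, 0), (1, 0), (1, 0), (1, 0), (1, 0)] = 1 + z + z ^ 2 + z ^ 3 + z ^ 4 + z ^ 5 + z ^ 6 := by
  simp [ev, cf, Fin.sum_univ_succ]
  abel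

theorem neSeven0 {F M : Type*} [Field F] [Ring M] [Algebra F M] (hp : ((7 : ℕ) : F) = 0) {θ : F}
    (hθ : θ * θ = ((0 : ℕ) : F)) {z : M} (hz : z ^ 7 = 1) (h : ev θ z PSeven = z ^ 0) :
    1 + z + z ^ 2 + z ^ 3 + z ^ 4 + z ^ 5 + z ^ 6 = 0 := by
  have h1 : addc 7 ![(0, 0), (3, 0), (6, 0), (2, 0), (5, 0), (1, 0), (4, 0)] ![(1, 0), (0, 0), (0, 0), (0, 0), (0, 0), (0, 0), (0, 0)] = PSeven := by decide +kernel
  have hX : ev θ z ![(1, 0), (0, 0), (0, 0), (0, 0), (0, 0), (0, 0), (0, 0)] = z ^ 0 := by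
    simp [ev, cf, Fin.sum_univ_succ]
  have h2 : ev θ z ![(0, 0), (3, 0), (6, 0), (2, 0), (5, 0), (1, 0), (4, 0)] = 0 := by
    rw [← h1, ev_addc hp, hX] at h
    exact add_eq_right.1 h
  have h3 : conv 7 0 ![(5, 0), (2, 0), (0, 0), (0, 0), (0, 0), (0, 0), (0, 0)] ![(0, 0), (3, 0), (6, 0), (2, 0), (5, 0), (1, 0), (4, 0)] = ![(1, 0), (1, 0), (1, 0), (1, 0), (1, 0), (1, 0), (1, 0)] := by decide +kernel
  rw [← ev_ones θ z, ← h3, ev_conv hp hθ hz, h2, mul_zero]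

theorem neSeven1 {F M : Type*} [Field F] [Ring M] [Algebra F M] (hp : ((7 : ℕ) : F) = 0) {θ : F}
    (hθ : θ * θ = ((0 : ℕ) : F)) {z : M} (hz : z ^ 7 = 1) (h : ev θ z PSeven = z ^ 1) :
    1 + z + z ^ 2 + z ^ 3 + z ^ 4 + z ^ 5 + z ^ 6 = 0 := by
  have h1 : addc 7 ![(1, 0), (2, 0), (6, 0), (2, 0), (5, 0), (1, 0), (4, 0)] ![(0, 0), (1, 0), (0, 0), (0, 0), (0, 0), (0, 0), (0, 0)] = PSeven := by decide +kernel
  have hX : ev θ z ![(0, 0), (1, 0), (0, 0), (0, 0), (0, 0), (0, 0), (0, 0)] = z ^ 1 := by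
    simp [ev, cf, Fin.sum_univ_succ]
  have h2 : ev θ z ![(1, 0), (2, 0), (6, 0), (2, 0), (5, 0), (1, 0), (4, 0)] = 0 := by
    rw [← h1, ev_addc hp, hX] at h
    exact add_eq_right.1 h
  have h3 : conv 7 0 ![(1, 0), (2, 0), (3, 0), (4, 0), (5, 0), (6, 0), (0, 0)] ![(1, 0), (2, 0), (6, 0), (2, 0), (5, 0), (1, 0), (4, 0)] = ![(1, 0), (1, 0), (1, 0), (1, 0), (1, 0), (1, 0), (1, 0)] := by decide +kernel
  rw [← ev_ones θ z, ← h3, ev_conv hp hθ hz, h2, mul_zero]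

theorem neSeven2 {F M : Type*} [Field F] [Ring M] [Algebra F M] (hp : ((7 : ℕ) : F) = 0) {θ : F}
    (hθ : θ * θ = ((0 : ℕ) : F)) {z : M} (hz : z ^ 7 = 1) (h : ev θ z PSeven = z ^ 2) :
    1 + z + z ^ 2 + z ^ 3 + z ^ 4 + z ^ 5 + z ^ 6 = 0 := by
  have h1 : addc 7 ![(1, 0), (3, 0), (5, 0), (2, 0), (5, 0), (1, 0), (4, 0)] ![(0, 0), (0, 0), (1, 0), (0, 0), (0, 0), (0, 0), (0, 0)] = PSeven := by decide +kernel
  have hX : ev θ z ![(0, 0), (0, 0), (1, 0), (0, 0), (0, 0), (0, 0), (0, 0)] = z ^ 2 := by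
    simp [ev, cf, Fin.sum_univ_succ]
  have h2 : ev θ z ![(1, 0), (3, 0), (5, 0), (2, 0), (5, 0), (1, 0), (4, 0)] = 0 := by
    rw [← h1, ev_addc hp, hX] at h
    exact add_eq_right.1 h
  have h3 : conv 7 0 ![(4, 0), (1, 0), (5, 0), (2, 0), (6, 0), (3, 0), (0, 0)] ![(1, 0), (3, 0), (5, 0), (2, 0), (5, 0), (1, 0), (4, 0)] = ![(1, 0), (1, 0), (1, 0), (1, 0), (1, 0), (1, 0), (1, 0)] := by decide +kernel
  rw [← ev_ones θ z, ← h3, ev_conv hp hθ hz, h2, mul_zero]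

theorem neSeven3 {F M : Type*} [Field F] [Ring M] [Algebra F M] (hp : ((7 : ℕ) : F) = 0) {θ : F}
    (hθ : θ * θ = ((0 : ℕ) : F)) {z : M} (hz : z ^ 7 = 1) (h : ev θ z PSeven = z ^ 3) :
    1 + z + z ^ 2 + z ^ 3 + z ^ 4 + z ^ 5 + z ^ 6 = 0 := by
  have h1 : addc 7 ![(1, 0), (3, 0), (6, 0), (1, 0), (5, 0), (1, 0), (4, 0)] ![(0, 0), (0, 0), (0, 0), (1, 0), (0, 0), (0, 0), (0, 0)] = PSeven := by decide +kernel
  have hX : ev θ z ![(0, 0), (0, 0), (0, 0), (1, 0), (0, 0), (0, 0), (0, 0)] = z ^ 3 := by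
    simp [ev, cf, Fin.sum_univ_succ]
  have h2 : ev θ z ![(1, 0), (3, 0), (6, 0), (1, 0), (5, 0), (1, 0), (4, 0)] = 0 := by
    rw [← h1, ev_addc hp, hX] at h
    exact add_eq_right.1 h
  have h3 : conv 7 0 ![(5, 0), (3, 0), (1, 0), (6, 0), (4, 0), (2, 0), (0, 0)] ![(1, 0), (3, 0), (6, 0), (1, 0), (5, 0), (1, 0), (4, 0)] = ![(1, 0), (1, 0), (1, 0), (1, 0), (1, 0), (1, 0), (1, 0)] := by decide +kernel
  rw [← ev_ones θ z, ← h3, ev_conv hp hθ hz, h2, mul_zero]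

theorem neSeven4 {F M : Type*} [Field F] [Ring M] [Algebra F M] (hp : ((7 : ℕ) : F) = 0) {θ : F}
    (hθ : θ * θ = ((0 : ℕ) : F)) {z : M} (hz : z ^ 7 = 1) (h : ev θ z PSeven = z ^ 4) :
    1 + z + z ^ 2 + z ^ 3 + z ^ 4 + z ^ 5 + z ^ 6 = 0 := by
  have h1 : addc 7 ![(1, 0), (3, 0), (6, 0), (2, 0), (4, 0), (1, 0), (4, 0)] ![(0, 0), (0, 0), (0, 0), (0, 0), (1, 0), (0, 0), (0, 0)] = PSeven := by decide +kernel
  have hX : ev θ z ![(0, 0), (0, 0), (0, 0), (0, 0), (1, 0), (0, 0), (0, 0)] = z ^ 4 := by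
    simp [ev, cf, Fin.sum_univ_succ]
  have h2 : ev θ z ![(1, 0), (3, 0), (6, 0), (2, 0), (4, 0), (1, 0), (4, 0)] = 0 := by
    rw [← h1, ev_addc hp, hX] at h
    exact add_eq_right.1 h
  have h3 : conv 7 0 ![(2, 0), (4, 0), (6, 0), (1, 0), (3, 0), (5, 0), (0, 0)] ![(1, 0), (3, 0), (6, 0), (2, 0), (4, 0), (1, 0), (4, 0)] = ![(1, 0), (1, 0), (1, 0), (1, 0), (1, 0), (1, 0), (1, 0)] := by decide +kernel
  rw [← ev_ones θ z, ← h3, ev_conv hp hθ hz, h2, mul_zero]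

theorem neSeven5 {F M : Type*} [Field F] [Ring M] [Algebra F M] (hp : ((7 : ℕ) : F) = 0) {θ : F}
    (hθ : θ * θ = ((0 : ℕ) : F)) {z : M} (hz : z ^ 7 = 1) (h : ev θ z PSeven = z ^ 5) :
    1 + z + z ^ 2 + z ^ 3 + z ^ 4 + z ^ 5 + z ^ 6 = 0 := by
  have h1 : addc 7 ![(1, 0), (3, 0), (6, 0), (2, 0), (5, 0), (0, 0), (4, 0)] ![(0, 0), (0, 0), (0, 0), (0, 0), (0, 0), (1, 0), (0, 0)] = PSeven := by decide +kernel
  have hX : ev θ z ![(0, 0), (0, 0), (0, 0), (0, 0), (0, 0), (1, 0), (0, 0)] = z ^ 5 := by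
    simp [ev, cf, Fin.sum_univ_succ]
  have h2 : ev θ z ![(1, 0), (3, 0), (6, 0), (2, 0), (5, 0), (0, 0), (4, 0)] = 0 := by
    rw [← h1, ev_addc hp, hX] at h
    exact add_eq_right.1 h
  have h3 : conv 7 0 ![(3, 0), (6, 0), (2, 0), (5, 0), (1, 0), (4, 0), (0, 0)] ![(1, 0), (3, 0), (6, 0), (2, 0), (5, 0), (0, 0), (4, 0)] = ![(1, 0), (1, 0), (1, 0), (1, 0), (1, 0), (1, 0), (1, 0)] := by decide +kernel
  rw [← ev_ones θ z, ← h3, ev_conv hp hθ hz, h2, mul_zero]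

theorem neSeven6 {F M : Type*} [Field F] [Ring M] [Algebra F M] (hp : ((7 : ℕ) : F) = 0) {θ : F}
    (hθ : θ * θ = ((0 : ℕ) : F)) {z : M} (hz : z ^ 7 = 1) (h : ev θ z PSeven = z ^ 6) :
    1 + z + z ^ 2 + z ^ 3 + z ^ 4 + z ^ 5 + z ^ 6 = 0 := by
  have h1 : addc 7 ![(1, 0), (3, 0), (6, 0), (2, 0), (5, 0), (1, 0), (3, 0)] ![(0, 0), (0, 0), (0, 0), (0, 0), (0, 0), (0, 0), (1, 0)] = PSeven := by decide +kernel
  have hX : ev θ z ![(0, 0), (0, 0), (0, 0), (0, 0), (0, 0), (0, 0), (1, 0)] = z ^ 6 := by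
    simp [ev, cf, Fin.sum_univ_succ]
  have h2 : ev θ z ![(1, 0), (3, 0), (6, 0), (2, 0), (5, 0), (1, 0), (3, 0)] = 0 := by
    rw [← h1, ev_addc hp, hX] at h
    exact add_eq_right.1 h
  have h3 : conv 7 0 ![(6, 0), (5, 0), (4, 0), (3, 0), (2, 0), (1, 0), (0, 0)] ![(1, 0), (3, 0), (6, 0), (2, 0), (5, 0), (1, 0), (3, 0)] = ![(1, 0), (1, 0), (1, 0), (1, 0), (1, 0), (1, 0), (1, 0)] := by decide +kernel
  rw [← ev_ones θ z, ← h3, ev_conv hp hθ hz, h2, mul_zero]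

/-- `P(z) = z^j` implies `1 + z + ⋯ + z⁶ = 0` -/
theorem neSeven {F M : Type*} [Field F] [Ring M] [Algebra F M] (hp : ((7 : ℕ) : F) = 0) {θ : F}
    (hθ : θ * θ = ((0 : ℕ) : F)) {z : M} (hz : z ^ 7 = 1) {j : ℕ} (hj : j < 7) (h : ev θ z PSeven = z ^ j) :
    1 + z + z ^ 2 + z ^ 3 + z ^ 4 + z ^ 5 + z ^ 6 = 0 := by
  interval_cases j
  · exact neSeven0 hp hθ hz h
  · exact neSeven1 hp hθ hz h
  · exact neSeven2 hp hθ hz h
  · exact neSeven3 hp hθ hz h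
  · exact neSeven4 hp hθ hz h
  · exact neSeven5 hp hθ hz h
  · exact neSeven6 hp hθ hz h

end Cfsg.Agent.H286.EP
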