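import Mathlib

/-!
# `2³:7` in a ring (helper286, S3499-IV)
-/

set_option autoImplicit false

namespace Cfsg.Agent.H286.EP

/-- if `1 + T + ⋯ + T⁶ = 0`, the elements inverted freely by `T` are trivial -/
theorem frob_ring {R : Type*} [Ring R] (h8 : ∀ x : R, (8 : ℕ) • x = 0 → x = 0) {T A B C : R} (hA : A * A = 1)
    (hB : B * B = 1) (hC : C * C = 1) (hBA : B * A = A * B) (hCA : C * A = A * C) (hCB : C * B = B * C)
    (hTA : T * A = B * T) (hTB : T * B = C * T) (hTC : T * C = A * (B * T))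
    (hs : 1 + T + T ^ 2 + T ^ 3 + T ^ 4 + T ^ 5 + T ^ 6 = 0) : A = 1 := by
  have hA' : ∀ x, A * (A * x) = x := fun x => by rw [← mul_assoc, hA, one_mul]
  have hB' : ∀ x, B * (B * x) = x := fun x => by rw [← mul_assoc, hB, one_mul]
  have hC' : ∀ x, C * (C * x) = x := fun x => by rw [← mul_assoc, hC, one_mul]
  have hBA' : ∀ x, B * (A * x) = A * (B * x) := fun x => by rw [← mul_assoc, hBA, mul_assoc]
  have hCA' : ∀ x, C * (A * x) = A * (C * x) := fun x => by rw [← mul_assoc, hCA, mul_assoc]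
  have hCB' : ∀ x, C * (B * x) = B * (C * x) := fun x => by rw [← mul_assoc, hCB, mul_assoc]
  have hTA' : ∀ x, T * (A * x) = B * (T * x) := fun x => by rw [← mul_assoc, hTA, mul_assoc]
  have hTB' : ∀ x, T * (B * x) = C * (T * x) := fun x => by rw [← mul_assoc, hTB, mul_assoc]
  have hTC' : ∀ x, T * (C * x) = A * (B * (T * x)) := fun x => by rw [← mul_assoc, hTC, mul_assoc, mul_assoc]
  have hp : ∀ g h : R, g * h = 1 → g * (T + T ^ 2 + T ^ 3 + T ^ 4 + T ^ 5 + T ^ 6) * h = -1 := by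
    intro g h hgh
    have h1 : T + T ^ 2 + T ^ 3 + T ^ 4 + T ^ 5 + T ^ 6 = -1 := by
      rw [eq_neg_iff_add_eq_zero, ← hs]; abel
    rw [h1, mul_neg, mul_one, neg_mul, hgh]
  have e1 := hp 1 1 (mul_one 1)
  have e2 := hp A A hA
  have e3 := hp B B hB
  have e4 := hp C C hC
  have e5 := hp (A * B) (A * B) (by simp only [mul_assoc, hA, hB, hA', hBA', mul_one])
  have e6 := hp (A * C) (A * C) (by simp only [mul_assoc, hA, hC, hA', hCA', mul_one])
  have e7 := hp (B * C) (B * C) (by simp only [mul_assoc, hB, hC, hB', hCB', mul_one])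
  have e8 := hp (A * (B * C)) (A * (B * C)) (by
    simp only [mul_assoc, hA, hB, hC, hA', hB', hC', hBA', hCA', hCB', mul_one])
  have key : 1 * (T + T ^ 2 + T ^ 3 + T ^ 4 + T ^ 5 + T ^ 6) * 1 + A * (T + T ^ 2 + T ^ 3 + T ^ 4 + T ^ 5 + T ^ 6) * A +
      B * (T + T ^ 2 + T ^ 3 + T ^ 4 + T ^ 5 + T ^ 6) * B + C * (T + T ^ 2 + T ^ 3 + T ^ 4 + T ^ 5 + T ^ 6) * C +
      (A * B) * (T + T ^ 2 + T ^ 3 + T ^ 4 + T ^ 5 + T ^ 6) * (A * B) +
      (A * C) * (T + T ^ 2 + T ^ 3 + T ^ 4 + T ^ 5 + T ^ 6) * (A * C) +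
      (B * C) * (T + T ^ 2 + T ^ 3 + T ^ 4 + T ^ 5 + T ^ 6) * (B * C) +
      (A * (B * C)) * (T + T ^ 2 + T ^ 3 + T ^ 4 + T ^ 5 + T ^ 6) * (A * (B * C)) =
      (1 + A + B + C + A * B + A * C + B * C + A * (B * C)) * (T + T ^ 2 + T ^ 3 + T ^ 4 + T ^ 5 + T ^ 6) := by
    simp only [pow_succ, pow_zero, one_mul, mul_add, add_mul, mul_assoc, mul_one, hA, hB, hC, hBA, hCA, hCB, hTA, hTB,
      hTC, hA', hB', hC', hBA', hCA', hCB', hTA', hTB', hTC']
    abel
  rw [e1, e2, e3, e4, e5, e6, e7, e8] at key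
  have h1 : T + T ^ 2 + T ^ 3 + T ^ 4 + T ^ 5 + T ^ 6 = -1 := by
    rw [eq_neg_iff_add_eq_zero, ← hs]; abel
  rw [h1, mul_neg, mul_one] at key
  have h2 : 1 + A + B + C + A * B + A * C + B * C + A * (B * C) = (8 : ℕ) • (1 : R) := by
    have : 1 + A + B + C + A * B + A * C + B * C + A * (B * C) =
        -(-1 + -1 + -1 + -1 + -1 + -1 + -1 + -1) := by rw [key, neg_neg]
    rw [this]
    simp only [nsmul_eq_mul, mul_one]
    norm_num
  have h3 : A * (1 + A + B + C + A * B + A * C + B * C + A * (B * C)) =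
      1 + A + B + C + A * B + A * C + B * C + A * (B * C) := by
    simp only [mul_add, mul_one, hA, hA']
    abel
  rw [h2, mul_smul_comm, mul_one] at h3
  have h4 := h8 (A - 1) (by rw [smul_sub, h3, sub_self])
  exact sub_eq_zero.1 h4

end Cfsg.Agent.H286.EP
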