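import Cfsg.Agent.H286.EP.CycSeven
import Cfsg.Agent.H286.EP.FrobD
import Cfsg.Agent.H286.EP.FrobRing
import Cfsg.Agent.H286.EP.CertZero

/-!
# S3499-IV: the socle `Ω₈⁺(2)` in `PΩ₈⁺(q)`, `q` a power of 7 (helper286)

The element `y` of order 7 lies in a Frobenius group `2³:7` of the socle, so `z = ŷ` has a Jordan block of size 7 and
`c = 1 + (z - z⁻¹)⁵` is no power of `z`; it is not in `A` as `7² ∤ |A|`.
-/

set_option autoImplicit false
set_option linter.unusedSectionVars false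

namespace Cfsg.Agent.H286.EP

open Cfsg.Agent.H284 Cfsg.Agent.H419.EP Subgroup
open Cfsg.Agent.LieClassical.OmegaReindex

/-- the signs in the preimage of `2³:7` -/
theorem frob_lift {F M : Type*} [Field F] [Ring M] [Algebra F M] (h10 : (1 : M) ≠ 0) {T T' A B C D : M}
    (hT' : T' * T = 1) (hB : B = T * A * T') (hC : C = T * B * T') (hD : D = T * C * T')
    {β γ σ ζ : F} (hβ : β * β = 1) (hγ : γ * γ = 1) (hσ : σ * σ = 1) (hζ : ζ * ζ = 1)
    (h1 : A * B = β • (B * A)) (h2 : A * C = γ • (C * A)) (h3 : A * A = σ • (1 : M)) (hTT : T * T' = 1)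
    (h4 : D = ζ • (A * B)) : β = 1 ∧ γ = 1 ∧ σ = 1 := by
  have cm : ∀ x y : M, (T * x * T') * (T * y * T') = T * (x * y) * T' := by
    intro x y
    calc (T * x * T') * (T * y * T') = T * x * (T' * T) * y * T' := by simp only [mul_assoc]
      _ = _ := by rw [hT', mul_one, mul_assoc T x y]
  have cs : ∀ (r : F) (x : M), T * (r • x) * T' = r • (T * x * T') := by
    intro r x
    rw [mul_smul_comm, smul_mul_assoc]
  have hBC : B * C = β • (C * B) := by
    rw [hC, hB, cm, ← hB, h1, cs, ← cm, ← hB]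
  have hCD : C * D = β • (D * C) := by
    rw [hD, hC, cm, ← hC, hBC, cs, ← cm, ← hC]
  have hBD : B * D = γ • (D * B) := by
    rw [hD, hB, cm, ← hB, h2, cs, ← cm, ← hB]
  have hBB : B * B = σ • (1 : M) := by
    rw [hB, cm, h3, cs, mul_one, hTT]
  have hCC : C * C = σ • (1 : M) := by
    rw [hC, cm, hBB, cs, mul_one, hTT]
  have hDD : D * D = σ • (1 : M) := by
    rw [hD, cm, hCC, cs, mul_one, hTT]
  have hCA : C * A = γ • (A * C) := by rw [h2, smul_smul, hγ, one_smul]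
  have hCB : C * B = β • (B * C) := by rw [hBC, smul_smul, hβ, one_smul]
  have hBA : B * A = β • (A * B) := by rw [h1, smul_smul, hβ, one_smul]
  have hDC : D * C ≠ 0 := by
    intro h
    apply h10
    have h5 : D * (D * C) * C = (σ * σ) • (1 : M) := by
      rw [← mul_assoc, hDD, mul_assoc, hCC, smul_mul_assoc, one_mul, smul_smul]
    rw [h, mul_zero, zero_mul, hσ, one_smul] at h5
    exact h5.symm
  have hDB : D * B ≠ 0 := by
    intro h
    apply h10
    have h5 : D * (D * B) * B = (σ * σ) • (1 : M) := by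
      rw [← mul_assoc, hDD, mul_assoc, hBB, smul_mul_assoc, one_mul, smul_smul]
    rw [h, mul_zero, zero_mul, hσ, one_smul] at h5
    exact h5.symm
  have hβ0 : β ≠ 0 := by
    rintro rfl
    rw [mul_zero] at hβ
    exact zero_ne_one hβ
  -- `γ = 1`
  have g1 : C * D = (γ * β) • (D * C) := by
    calc C * D = ζ • ((C * A) * B) := by rw [h4, mul_smul_comm, mul_assoc]
      _ = ζ • γ • (A * (C * B)) := by rw [hCA, smul_mul_assoc, mul_assoc]
      _ = ζ • γ • β • (A * B * C) := by rw [hCB, mul_smul_comm, mul_assoc]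
      _ = (γ * β) • ((ζ • (A * B)) * C) := by
        rw [smul_mul_assoc, smul_smul, smul_smul, smul_smul]
        congr 1
        ring
      _ = _ := by rw [← h4]
  have hγ1 : γ = 1 := by
    rw [hCD] at g1
    have g2 := smul_left_injective F hDC g1
    exact (mul_eq_right₀ hβ0).1 g2.symm
  -- `β = 1`
  have g3 : B * D = β • (D * B) := by
    calc B * D = ζ • ((B * A) * B) := by rw [h4, mul_smul_comm, mul_assoc]
      _ = ζ • β • (A * B * B) := by rw [hBA, smul_mul_assoc]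
      _ = β • ((ζ • (A * B)) * B) := by rw [smul_mul_assoc, smul_comm]
      _ = _ := by rw [← h4]
  have hβ1 : β = 1 := by
    rw [hBD, hγ1] at g3
    exact (smul_left_injective F hDB g3).symm
  -- `σ = 1`
  have g4 : D * D = (1 : M) := by
    calc D * D = (ζ * ζ) • (A * (B * A) * B) := by
          rw [h4, smul_mul_smul_comm]
          simp only [mul_assoc]
      _ = A * (A * B) * B := by rw [hBA, hβ1, one_smul, hζ, one_smul]
      _ = (A * A) * (B * B) := by simp only [mul_assoc]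
      _ = (σ * σ) • (1 : M) := by rw [h3, hBB, smul_mul_smul_comm, mul_one]
      _ = 1 := by rw [hσ, one_smul]
  refine ⟨hβ1, hγ1, ?_⟩
  rw [hDD] at g4
  have g5 : σ • (1 : M) = (1 : F) • (1 : M) := by rw [g4, one_smul]
  exact smul_left_injective F h10 g5

section

variable {F : Type*} [Field F] [Fintype F]

/-- central elements as signs -/
theorem center_sign {z : ↥(Cfsg.Omega F ⇑(quadPlus 4 F))} (hz : z ∈ Subgroup.center (Cfsg.Omega F ⇑(quadPlus 4 F))) :
    ∃ ε : F, ε * ε = 1 ∧ mt z = ε • 1 := by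
  rcases (center_iff z).1 hz with h | h
  · exact ⟨1, one_mul 1, by rw [h, one_smul]⟩
  · exact ⟨-1, by ring, by rw [h, neg_one_smul]⟩

theorem mk_eq_sign {x y : ↥(Cfsg.Omega F ⇑(quadPlus 4 F))}
    (h : (x : Cfsg.POmega F ⇑(quadPlus 4 F)) = (y : Cfsg.POmega F ⇑(quadPlus 4 F))) :
    ∃ ε : F, ε * ε = 1 ∧ mt x = ε • mt y := by
  obtain ⟨ε, h1, h2⟩ := center_sign (QuotientGroup.eq.1 h.symm)
  refine ⟨ε, h1, ?_⟩
  have h3 : x = y * (y⁻¹ * x) := by rw [mul_inv_cancel_left]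
  rw [h3, map_mul, h2, mul_smul_comm, mul_one]

/-- `1 + z + ⋯ + z⁶ ≠ 0` -/
theorem sum_ne (hp : ((7 : ℕ) : F) = 0) {t0 a0 : ↥(Cfsg.Omega F ⇑(quadPlus 4 F))}
    (ha : (a0 : Cfsg.POmega F ⇑(quadPlus 4 F)) ≠ 1)
    (haa : ((a0 * a0 : ↥(Cfsg.Omega F ⇑(quadPlus 4 F))) : Cfsg.POmega F ⇑(quadPlus 4 F)) = 1)
    (hab : ((a0 * (t0 * a0 * t0⁻¹) : ↥(Cfsg.Omega F ⇑(quadPlus 4 F))) : Cfsg.POmega F ⇑(quadPlus 4 F)) =
      ((t0 * a0 * t0⁻¹ * a0 : ↥(Cfsg.Omega F ⇑(quadPlus 4 F))) : Cfsg.POmega F ⇑(quadPlus 4 F)))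
    (hac : ((a0 * (t0 * (t0 * a0 * t0⁻¹) * t0⁻¹) : ↥(Cfsg.Omega F ⇑(quadPlus 4 F))) : Cfsg.POmega F ⇑(quadPlus 4 F)) =
      ((t0 * (t0 * a0 * t0⁻¹) * t0⁻¹ * a0 : ↥(Cfsg.Omega F ⇑(quadPlus 4 F))) : Cfsg.POmega F ⇑(quadPlus 4 F)))
    (had : ((t0 * (t0 * (t0 * a0 * t0⁻¹) * t0⁻¹) * t0⁻¹ : ↥(Cfsg.Omega F ⇑(quadPlus 4 F))) :
      Cfsg.POmega F ⇑(quadPlus 4 F)) =
      ((a0 * (t0 * a0 * t0⁻¹) : ↥(Cfsg.Omega F ⇑(quadPlus 4 F))) : Cfsg.POmega F ⇑(quadPlus 4 F))) :
    1 + mt t0 + mt t0 ^ 2 + mt t0 ^ 3 + mt t0 ^ 4 + mt t0 ^ 5 + mt t0 ^ 6 ≠ 0 := by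
  intro hs
  obtain ⟨σ, hσ, h3⟩ := center_sign ((QuotientGroup.eq_one_iff _).1 haa)
  obtain ⟨β, hβ, h1⟩ := mk_eq_sign hab
  obtain ⟨γ, hγ, h2⟩ := mk_eq_sign hac
  obtain ⟨ζ, hζ, h4⟩ := mk_eq_sign had
  have hT' : mt t0⁻¹ * mt t0 = 1 := by rw [← map_mul, inv_mul_cancel, map_one]
  have hTT : mt t0 * mt t0⁻¹ = 1 := by rw [← map_mul, mul_inv_cancel, map_one]
  simp only [map_mul] at h1 h2 h3 h4
  set T := mt t0 with hT
  set T' := mt t0⁻¹ with hT'd
  set A := mt a0 with hA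
  set B := T * A * T' with hB
  set C := T * B * T' with hC
  obtain ⟨rfl, rfl, rfl⟩ := frob_lift (D := T * C * T') one_ne_zero hT' hB hC rfl hβ hγ hσ hζ h1 h2 h3 hTT h4
  rw [one_smul] at h1 h2 h3
  have hTB : ∀ x, T * x = (T * x * T') * T := fun x => by rw [mul_assoc (T * x), hT', mul_one]
  have hBB : B * B = 1 := by
    calc B * B = T * A * (T' * T) * A * T' := by rw [hB]; simp only [mul_assoc]
      _ = T * (A * A) * T' := by rw [hT', mul_one]; simp only [mul_assoc]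
      _ = 1 := by rw [h3, mul_one, hTT]
  have hCC : C * C = 1 := by
    calc C * C = T * B * (T' * T) * B * T' := by rw [hC]; simp only [mul_assoc]
      _ = T * (B * B) * T' := by rw [hT', mul_one]; simp only [mul_assoc]
      _ = 1 := by rw [hBB, mul_one, hTT]
  have cm : ∀ x y : Matrix (Fin 4 ⊕ Fin 4) (Fin 4 ⊕ Fin 4) F, (T * x * T') * (T * y * T') = T * (x * y) * T' := by
    intro x y
    calc (T * x * T') * (T * y * T') = T * x * (T' * T) * y * T' := by simp only [mul_assoc]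
      _ = _ := by rw [hT', mul_one, mul_assoc T x y]
  have hBC : B * C = C * B := by
    have h5 : B * C = T * (A * B) * T' := cm A B
    have h6 : C * B = T * (B * A) * T' := cm B A
    rw [h5, h6, h1]
  have h8 : ∀ x : Matrix (Fin 4 ⊕ Fin 4) (Fin 4 ⊕ Fin 4) F, (8 : ℕ) • x = 0 → x = 0 := by
    intro x hx
    have h5 : ((8 : ℕ) : F) = 1 := by
      have : ((8 : ℕ) : F) = ((7 : ℕ) : F) + 1 := by push_cast; norm_num
      rw [this, hp, zero_add]
    rw [← Nat.cast_smul_eq_nsmul F, h5, one_smul] at hx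
    exact hx
  have key := frob_ring h8 (T := T) (A := ζ • A) (B := ζ • B) (C := ζ • C)
    (by rw [smul_mul_smul_comm, hζ, one_smul, h3]) (by rw [smul_mul_smul_comm, hζ, one_smul, hBB])
    (by rw [smul_mul_smul_comm, hζ, one_smul, hCC]) (by rw [smul_mul_smul_comm, smul_mul_smul_comm, h1])
    (by rw [smul_mul_smul_comm, smul_mul_smul_comm, h2]) (by rw [smul_mul_smul_comm, smul_mul_smul_comm, hBC])
    (by rw [mul_smul_comm, smul_mul_assoc, hTB A]) (by rw [mul_smul_comm, smul_mul_assoc, hTB B])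
    (by
      rw [mul_smul_comm, hTB C, h4, smul_mul_assoc, smul_mul_assoc, smul_mul_assoc, mul_smul_comm, mul_assoc]) hs
  apply ha
  rw [QuotientGroup.eq_one_iff, center_iff]
  have h5 : mt a0 = ζ • 1 := by
    rw [← key, smul_smul, hζ, one_smul]
  have h6 : ζ = 1 ∨ ζ = -1 := mul_self_eq_one_iff.1 hζ
  rcases h6 with h6 | h6
  · left; rw [h5, h6, one_smul]
  · right; rw [h5, h6, neg_one_smul]

variable {Q : Type*} [Group Q] [Finite Q] {A N : Subgroup Q} {Γ : Subgroup (MulAut Q)}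

/-- commuting elements of order 7 in `A` -/
theorem mem_zpowers_of_comm (hA : Nat.card A ∣ 1045094400) {y c : Q} (hy : y ∈ A) (hy7 : orderOf y = 7) (hc : c ∈ A)
    (hc7 : c ^ 7 = 1) (hcy : c * y = y * c) : c ∈ zpowers y := by
  have h7 : Fact (Nat.Prime 7) := ⟨by norm_num⟩
  have h1 : IsPGroup 7 ↥(zpowers y) := IsPGroup.of_card (n := 1) (by rw [Nat.card_zpowers, hy7, pow_one])
  have h2 : IsPGroup 7 ↥(zpowers c) := by
    rcases (Nat.dvd_prime (by norm_num : Nat.Prime 7)).1 (orderOf_dvd_of_pow_eq_one hc7) with h | h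
    · exact IsPGroup.of_card (n := 0) (by rw [Nat.card_zpowers, h, pow_zero])
    · exact IsPGroup.of_card (n := 1) (by rw [Nat.card_zpowers, h, pow_one])
  have h3 : zpowers c ≤ normalizer (zpowers y : Set Q) := by
    rw [zpowers_le, mem_normalizer_iff]
    have h4 : ∀ g ∈ zpowers y, Commute c g := by
      intro g hg
      obtain ⟨k, rfl⟩ := mem_zpowers_iff.1 hg
      exact (show Commute c y from hcy).zpow_right k
    intro g
    constructor
    · intro hg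
      rw [(h4 g hg).eq, mul_inv_cancel_right]
      exact hg
    · intro hg
      have h5 := h4 _ hg
      have h6 : c * g * c⁻¹ = g := by
        have h7 : c * (c * g * c⁻¹) = c * g := by rw [h5.eq]; group
        exact mul_left_cancel h7
      rwa [h6] at hg
  have h4 : IsPGroup 7 ↥(zpowers c ⊔ zpowers y) := h2.to_sup_of_normal_right' h1 h3
  obtain ⟨k, hk⟩ := h4.exists_card_eq
  have h5 : zpowers c ⊔ zpowers y ≤ A := sup_le (zpowers_le.2 hc) (zpowers_le.2 hy)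
  have h6 : 7 ^ k ∣ 1045094400 := by
    rw [← hk]
    exact (Subgroup.card_dvd_of_le h5).trans hA
  have hk1 : k ≤ 1 := by
    by_contra hk1
    have h9 : 7 ^ 2 ∣ 1045094400 := (pow_dvd_pow 7 (by omega)).trans h6
    norm_num at h9
  have h7 : zpowers y = zpowers c ⊔ zpowers y := by
    apply SetLike.coe_injective
    refine Set.eq_of_subset_of_ncard_le (le_sup_right : zpowers y ≤ zpowers c ⊔ zpowers y) ?_ (Set.toFinite _)
    rw [← Nat.card_coe_set_eq, ← Nat.card_coe_set_eq]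
    change Nat.card ↥(zpowers c ⊔ zpowers y) ≤ Nat.card ↥(zpowers y)
    rw [hk, Nat.card_zpowers, hy7]
    calc 7 ^ k ≤ 7 ^ 1 := Nat.pow_le_pow_right (by norm_num) hk1
      _ = 7 := by norm_num
  rw [h7]
  exact mem_sup_left (mem_zpowers c)

theorem push {D H G : Type*} [Group D] [Group H] [Group G] (q : D →* H) (e : G →* H) {t b : D} {y a : G}
    (ht : q t = e y) (hb : q b = e a) (h1 : a * a = 1) (h2 : a * (y * a * y⁻¹) = (y * a * y⁻¹) * a)
    (h3 : a * (y * (y * a * y⁻¹) * y⁻¹) = (y * (y * a * y⁻¹) * y⁻¹) * a)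
    (h4 : y * (y * (y * a * y⁻¹) * y⁻¹) * y⁻¹ = a * (y * a * y⁻¹)) :
    q (b * b) = 1 ∧ q (b * (t * b * t⁻¹)) = q (t * b * t⁻¹ * b) ∧
      q (b * (t * (t * b * t⁻¹) * t⁻¹)) = q (t * (t * b * t⁻¹) * t⁻¹ * b) ∧
      q (t * (t * (t * b * t⁻¹) * t⁻¹) * t⁻¹) = q (b * (t * b * t⁻¹)) := by
  have e1 := congrArg e h1
  have e2 := congrArg e h2
  have e3 := congrArg e h3
  have e4 := congrArg e h4
  simp only [map_mul, map_inv, map_one, ← ht, ← hb] at e1 e2 e3 e4
  refine ⟨?_, ?_, ?_, ?_⟩ <;> simp only [map_mul, map_inv] <;> assumption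

/-- **`q` a power of 7** -/
theorem kill_seven (h : EPT A Γ) (hsoc : HasSoc A (Cfsg.POmega (ZMod 2) (Cfsg.quadFormPlus 4 (ZMod 2))))
    (hp : ((7 : ℕ) : F) = 0) (e : Q ≃* Cfsg.POmega F (Cfsg.quadFormPlus 4 F)) : False := by
  have hAd := card_A_dvd hsoc
  obtain ⟨N, hNA, hN, hC, ⟨f⟩⟩ := hsoc
  have hNs : IsSimpleGroup ↥N := by
    haveI := Cfsg.Agent.S0296.result (F := ZMod 2) 4 le_rfl
    exact f.isSimpleGroup
  have hNΓ := soc_inv h hNA hN hC hNs
  rw [← coe_quadPlus] at e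
  obtain ⟨d⟩ := Cfsg.Agent.S1082.result (F := ZMod 2)
  obtain ⟨⟨y, hyN⟩, ⟨a, haN⟩, hy7, hy1, ha1, haa, hab, hac, had⟩ := F56_D4.of_equiv (f.trans d.symm)
  have hy7' : y ^ 7 = 1 := Subtype.ext_iff.1 hy7
  have hy1' : y ≠ 1 := fun h => hy1 (Subtype.ext h)
  have ha1' : a ≠ 1 := fun h => ha1 (Subtype.ext h)
  have haa' : a * a = 1 := Subtype.ext_iff.1 haa
  have hab' : a * (y * a * y⁻¹) = (y * a * y⁻¹) * a := Subtype.ext_iff.1 hab
  have hac' : a * (y * (y * a * y⁻¹) * y⁻¹) = (y * (y * a * y⁻¹) * y⁻¹) * a := Subtype.ext_iff.1 hac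
  have had' : y * (y * (y * a * y⁻¹) * y⁻¹) * y⁻¹ = a * (y * a * y⁻¹) := Subtype.ext_iff.1 had
  have hy : orderOf y = 7 := by
    have h7 : Fact (Nat.Prime 7) := ⟨by norm_num⟩
    exact orderOf_eq_prime hy7' hy1'
  have hey7 : (e y) ^ 7 = 1 := by rw [← map_pow, hy7', map_one]
  obtain ⟨t0, hty, ht0⟩ := Cfsg.Agent.H286.CS.exists_lift center_two (r := 7) (by decide) (e y) hey7
  obtain ⟨a0, ha0⟩ := QuotientGroup.mk_surjective (e a)
  have hθ : (0 : F) * 0 = ((0 : ℕ) : F) := by simp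
  have qa : QuotientGroup.mk' (Subgroup.center (Cfsg.Omega F ⇑(quadPlus 4 F))) a0 = e a := ha0
  have qt : QuotientGroup.mk' (Subgroup.center (Cfsg.Omega F ⇑(quadPlus 4 F))) t0 = e y := hty
  obtain ⟨q1, q2, q3, q4⟩ := push (QuotientGroup.mk' (Subgroup.center (Cfsg.Omega F ⇑(quadPlus 4 F)))) e.toMonoidHom
    qt qa haa' hab' hac' had'
  have q0 : (a0 : Cfsg.POmega F ⇑(quadPlus 4 F)) ≠ 1 := by
    intro h5
    apply ha1'
    apply e.injective
    rw [← ha0, map_one]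
    exact h5
  have hsum := sum_ne hp (t0 := t0) (a0 := a0) q0 q1 q2 q3 q4
  have hcert := certSeven (F := F) (M := Matrix (Fin 4 ⊕ Fin 4) (Fin 4 ⊕ Fin 4) F) hp hθ
  obtain ⟨c0, hc0⟩ := exists_c0 (two_ne hp (by decide)) (l := 7) (by decide) hcert ht0
  refine kill_core h hNA hNΓ f e hyN hy ht0 hty hcert hc0 (by norm_num) ?_ ?_
  · intro k h1 h2
    interval_cases k <;> norm_num
  intro hcA
  set c : Q := e.symm (c0 : Cfsg.POmega F ⇑(quadPlus 4 F)) with hcd
  have hec : e c = (c0 : Cfsg.POmega F ⇑(quadPlus 4 F)) := by rw [hcd, MulEquiv.apply_symm_apply]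
  have hc7 : c ^ 7 = 1 := by
    apply e.injective
    rw [map_pow, hec, ← QuotientGroup.mk_pow, c0_pow hcert ht0 hc0, map_one]
    rfl
  have hcy : c * y = y * c := by
    apply e.injective
    rw [map_mul, map_mul, hec, ← hty, ← QuotientGroup.mk_mul, ← QuotientGroup.mk_mul, c0_comm hc0]
  have h1 := mem_zpowers_of_comm hAd (hNA hyN) hy hcA hc7 hcy
  have h2 : c ∈ Submonoid.powers y := by
    rw [mem_powers_iff_mem_zpowers]
    exact h1
  obtain ⟨j, hj⟩ := h2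
  have hj' : y ^ j = c := hj
  have hj7 : y ^ (j % 7) = c := by
    rw [← hj']
    conv_rhs => rw [← pow_mod_orderOf, hy]
  have h3 : (1 : ↥(Cfsg.Omega F ⇑(quadPlus 4 F))) * c0 * 1⁻¹ = t0 ^ (j % 7) := by
    refine lift_conj (c0_pow hcert ht0 hc0) ?_ ?_
    · rw [← pow_mul, mul_comm, pow_mul, ht0, one_pow]
    · rw [one_mul, inv_one, mul_one, QuotientGroup.mk_pow, hty, ← map_pow, hj7, hec]
  rw [one_mul, inv_one, mul_one] at h3
  have h4 : ev (0 : F) (mt t0) PSeven = mt t0 ^ (j % 7) := by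
    rw [← hc0, h3, map_pow]
  exact hsum (neSeven hp hθ (by rw [← map_pow, ht0, map_one]) (Nat.mod_lt _ (by norm_num)) h4)

end

end Cfsg.Agent.H286.EP
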