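import Cfsg.Agent.H286.EP.KillO8p
import Cfsg.Agent.H286.EP.KillSeven
import Cfsg.Agent.H286.EP.BigSeven

/-!
# S3499-IV: the socle `Ω₈⁺(2)` in `PΩ₈⁺(q)`, `q` odd (helper286)
-/

set_option autoImplicit false

namespace Cfsg.Agent.H286.EP

open Cfsg.Agent.H284 Cfsg.Agent.H419.EP

/-- **S3499-IV-L, `L = Ω₈⁺(2)`, `Q = PΩ₈⁺(q)`, `q` odd.** -/
theorem kill_odd {Q : Type*} [Group Q] [Finite Q] {A : Subgroup Q} {Γ : Subgroup (MulAut Q)} (h : EPT A Γ)
    (hsoc : HasSoc A (Cfsg.POmega (ZMod 2) (Cfsg.quadFormPlus 4 (ZMod 2)))) {F : Type*} [Field F] [Fintype F]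
    (ho : Odd (Fintype.card F)) (e : Q ≃* Cfsg.POmega F (Cfsg.quadFormPlus 4 F)) : False := by
  have h2 : Fintype.card F % 2 = 1 := Nat.odd_iff.1 ho
  have hpp : IsPrimePow (Fintype.card F) := FiniteField.isPrimePow_card F
  by_cases h8 : Fintype.card F % 8 = 3 ∨ Fintype.card F % 8 = 5
  · exact kill_gen h hsoc h8 e
  rcases Nat.lt_or_ge (Fintype.card F) 31 with hlt | hge
  · have h1 : Fintype.card F = 1 ∨ Fintype.card F = 7 ∨ Fintype.card F = 9 ∨ Fintype.card F = 15 ∨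
        Fintype.card F = 17 ∨ Fintype.card F = 23 ∨ Fintype.card F = 25 := by omega
    rcases h1 with hF | hF | hF | hF | hF | hF | hF
    · rw [hF] at hpp
      exact not_isPrimePow_one hpp
    · exact kill_seven h hsoc (char_of (p := 7) (e := 1) (by norm_num) one_ne_zero (by rw [hF]; norm_num)) e
    · exact kill_nine h hsoc hF e
    · rw [hF, isPrimePow_nat_iff] at hpp
      obtain ⟨p, k, hp, hk, hpk⟩ := hpp
      have h3 : p ∣ 15 := by rw [← hpk]; exact dvd_pow_self p hk.ne'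
      have h5 : 3 ∣ p ^ k := by rw [hpk]; norm_num
      have h6 : 5 ∣ p ^ k := by rw [hpk]; norm_num
      have h7 := (Nat.prime_dvd_prime_iff_eq Nat.prime_three hp).1 (Nat.prime_three.dvd_of_dvd_pow h5)
      have h8 := (Nat.prime_dvd_prime_iff_eq Nat.prime_five hp).1 (Nat.prime_five.dvd_of_dvd_pow h6)
      omega
    · exact kill_seventeen h hsoc hF e
    · exact kill_twentythree h hsoc hF e
    · exact kill_twentyfive h hsoc hF e
  · exact kill_big h hsoc hge e

end Cfsg.Agent.H286.EP
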