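import Cfsg.Agent.H286.EP.KillO8

/-!
# S3499-IV-L: the socle `Ω₈⁺(2)` in `PΩ₈⁺(q)`, `q ≡ ±3 mod 8`

`kill_gen` : `EPT A Γ` with `soc A ≅ Ω₈⁺(2)` in `Q ≅ PΩ₈⁺(q)`, `q ≡ ±3 mod 8`, is impossible. `A = N` by the Frattini
argument for a Sylow 2-subgroup (self-normalising in `Q`), `|Q : A| ≡ 3 mod 4` by the order formulas.
-/

set_option autoImplicit false
set_option linter.unusedSectionVars false

namespace Cfsg.Agent.H286.EP

open Cfsg.Agent.H284 Cfsg.Agent.H419.EP Subgroup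

/-- Sylow 2-subgroups of `PΩ₈⁺(q)`, `q` odd, are self-normalising. -/
theorem self_Q' {Q : Type*} [Group Q] [Finite Q] {F : Type*} [Field F] [Fintype F] (hF : Odd (Fintype.card F))
    (e : Q ≃* Cfsg.POmega F (Cfsg.quadFormPlus 4 F)) (S : Sylow 2 Q) :
    normalizer ((S : Subgroup Q) : Set Q) ≤ S := by
  have : Finite (Cfsg.POmega F (Cfsg.quadFormPlus 4 F)) := Finite.of_equiv Q e.toEquiv
  intro g hg
  have hsurj : Function.Surjective e.toMonoidHom := e.surjective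
  obtain ⟨S', hS'⟩ : ∃ S' : Sylow 2 (Cfsg.POmega F (Cfsg.quadFormPlus 4 F)),
      (S' : Subgroup (Cfsg.POmega F (Cfsg.quadFormPlus 4 F))) = (S : Subgroup Q).map e.toMonoidHom :=
    ⟨S.mapSurjective hsurj, rfl⟩
  have h1 := Cfsg.Agent.H803.RowOmega.self_plus (F := F) hF 4 le_rfl S'
  rw [hS'] at h1
  have h3 := h1 (Subgroup.le_normalizer_map _ ⟨g, hg, rfl⟩ : e g ∈ _)
  obtain ⟨s, hs, hsg⟩ := h3
  rwa [← e.injective hsg]

/-- `A = N` if `|Q : N|` is odd and the Sylow 2-subgroups of `Q` are self-normalising. -/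
theorem eq_of_self {Q : Type*} [Group Q] [Finite Q] {A N : Subgroup Q} (hNA : N ≤ A)
    (hN : ∀ a ∈ A, ∀ n ∈ N, a * n * a⁻¹ ∈ N) (hodd : ¬ 2 ∣ N.index)
    (hself : ∀ S : Sylow 2 Q, Subgroup.normalizer ((S : Subgroup Q) : Set Q) ≤ S) : A = N := by
  set N' : Subgroup ↥A := N.subgroupOf A with hN'
  have hn : N'.Normal := ⟨by
    rintro ⟨n, hn'⟩ hn ⟨a, ha⟩
    exact hN a ha n hn⟩
  obtain ⟨P⟩ : Nonempty (Sylow 2 ↥N') := inferInstance
  set S : Subgroup Q := ((P : Subgroup ↥N').map N'.subtype).map A.subtype with hS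
  have hSp : IsPGroup 2 ↥S := (P.isPGroup'.map _).map _
  have hSi : ¬ 2 ∣ S.index := by
    rw [hS, Subgroup.index_map_subtype, Subgroup.index_map_subtype]
    intro h
    have h1 : N.index = N'.index * A.index := by
      rw [hN', ← Subgroup.relIndex, Subgroup.relIndex_mul_index hNA]
    rw [mul_assoc, ← h1] at h
    rcases (Nat.prime_two.dvd_mul).1 h with h2 | h2
    · exact P.not_dvd_index h2
    · exact hodd h2
  have hself' : Subgroup.normalizer (S : Set Q) ≤ S := hself (hSp.toSylow hSi)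
  have hfr := Sylow.normalizer_sup_eq_top P
  have hle : normalizer (((P : Subgroup ↥N').map N'.subtype : Subgroup ↥A) : Set ↥A) ≤ N' := by
    intro a ha
    have h1 : (a : Q) ∈ normalizer (S : Set Q) := Subgroup.le_normalizer_map _ ⟨a, ha, rfl⟩
    obtain ⟨b, ⟨c, hc, rfl⟩, hb⟩ := hself' h1
    have h2 : N'.subtype c = a := Subtype.ext hb
    rw [← h2]
    exact c.2
  have htop : N' = ⊤ := by
    rw [eq_top_iff, ← hfr]
    exact sup_le hle le_rfl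
  refine le_antisymm (fun a ha => ?_) hNA
  have h16 : (⟨a, ha⟩ : ↥A) ∈ N' := by rw [htop]; exact Subgroup.mem_top _
  exact h16

/-- the order of `PΩ₈⁺(q)`, `q ≡ ±3 mod 8` -/
theorem card_Q' {F : Type*} [Field F] [Fintype F] (hF : Fintype.card F % 8 = 3 ∨ Fintype.card F % 8 = 5) :
    ∃ m, m % 8 = 3 ∧ Nat.card (Cfsg.POmega F (Cfsg.quadFormPlus 4 F)) = 4096 * m := by
  have h := Cfsg.Agent.S0293.result (F := F) rfl 4 (by norm_num)
  obtain ⟨q, hq⟩ : ∃ q, Fintype.card F = q := ⟨_, rfl⟩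
  rw [hq] at h hF
  have h1 : ∃ u, q ^ 2 = 8 * u + 1 ∧ u % 2 = 1 := by
    rcases hF with h1 | h1
    · obtain ⟨a, ha⟩ : ∃ a, q = 8 * a + 3 := ⟨q / 8, by omega⟩
      exact ⟨8 * a ^ 2 + 6 * a + 1, by rw [ha]; ring, by omega⟩
    · obtain ⟨a, ha⟩ : ∃ a, q = 8 * a + 5 := ⟨q / 8, by omega⟩
      exact ⟨8 * a ^ 2 + 10 * a + 3, by rw [ha]; ring, by omega⟩
  obtain ⟨u, hu, hu2⟩ := h1
  have e1 : q ^ 2 - 1 = 8 * u := by omega
  have e2 : q ^ 4 - 1 = 16 * (u * (4 * u + 1)) := by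
    have : q ^ 4 = (8 * u + 1) ^ 2 := by rw [← hu]; ring
    have h2 : (8 * u + 1) ^ 2 = 16 * (u * (4 * u + 1)) + 1 := by ring
    omega
  have e3 : q ^ 6 - 1 = 8 * u * (64 * u ^ 2 + 24 * u + 3) := by
    have : q ^ 6 = (8 * u + 1) ^ 3 := by rw [← hu]; ring
    have h2 : (8 * u + 1) ^ 3 = 8 * u * (64 * u ^ 2 + 24 * u + 3) + 1 := by ring
    omega
  have hg : Nat.gcd 4 (q ^ 4 - 1) = 4 := by
    rw [e2]
    exact Nat.gcd_eq_left ⟨4 * (u * (4 * u + 1)), by ring⟩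
  have hprod : ∏ i ∈ Finset.range (4 - 1), (q ^ (2 * (i + 1)) - 1) = (q ^ 2 - 1) * (q ^ 4 - 1) * (q ^ 6 - 1) := by
    simp [Finset.prod_range_succ]
  rw [hg, hprod, e1, e2, e3] at h
  refine ⟨(q ^ 6) ^ 2 * (u * (4 * u + 1)) ^ 2 * u ^ 2 * (64 * u ^ 2 + 24 * u + 3), ?_, ?_⟩
  · have hsq : ∀ a : ℕ, a % 2 = 1 → a ^ 2 % 8 = 1 := by
      intro a ha
      have : a % 8 = 1 ∨ a % 8 = 3 ∨ a % 8 = 5 ∨ a % 8 = 7 := by omega
      rcases this with h | h | h | h <;> simp [Nat.pow_mod, h]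
    have hq2 : q % 2 = 1 := by omega
    have h1 : q ^ 6 % 2 = 1 := by simp [Nat.pow_mod, hq2]
    have h2 : (u * (4 * u + 1)) % 2 = 1 := by
      rw [Nat.mul_mod, hu2]
      omega
    have h3 : (64 * u ^ 2 + 24 * u + 3) % 8 = 3 := by omega
    rw [Nat.mul_mod, h3, Nat.mul_mod ((q ^ 6) ^ 2 * (u * (4 * u + 1)) ^ 2), hsq u hu2, Nat.mul_mod ((q ^ 6) ^ 2),
      hsq _ h1, hsq _ h2]
  · have h4 : 4 * Nat.card (Cfsg.POmega F (Cfsg.quadFormPlus 4 F)) = 4 * (4096 * ((q ^ 6) ^ 2 *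
        (u * (4 * u + 1)) ^ 2 * u ^ 2 * (64 * u ^ 2 + 24 * u + 3))) := by
      rw [h]; ring
    exact Nat.eq_of_mul_eq_mul_left (by norm_num) h4

/-- **S3499-IV-L, `L = Ω₈⁺(2)`, `Q = PΩ₈⁺(q)`, `q ≡ ±3 mod 8`.** -/
theorem kill_gen {Q : Type*} [Group Q] [Finite Q] {A : Subgroup Q} {Γ : Subgroup (MulAut Q)} (h : EPT A Γ)
    (hsoc : HasSoc A (Cfsg.POmega (ZMod 2) (Cfsg.quadFormPlus 4 (ZMod 2)))) {F : Type*} [Field F] [Fintype F]
    (hF : Fintype.card F % 8 = 3 ∨ Fintype.card F % 8 = 5) (e : Q ≃* Cfsg.POmega F (Cfsg.quadFormPlus 4 F)) :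
    False := by
  obtain ⟨N, hNA, hN, -, ⟨f⟩⟩ := hsoc
  obtain ⟨m, hm, hQ⟩ := card_Q' hF
  rw [← Nat.card_congr e.toEquiv] at hQ
  have hNc : Nat.card ↥N = 174182400 := by rw [Nat.card_congr f.toEquiv, card_L]
  have h1 := Subgroup.card_mul_index N
  rw [hNc, hQ] at h1
  have h2 : 42525 * N.index = m := by omega
  have h3 : N.index % 8 = 7 := by omega
  have hself := self_Q' (Nat.odd_iff.2 (by omega)) e
  have hAN : A = N := eq_of_self hNA hN (by omega) hself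
  subst hAN
  obtain ⟨d⟩ := Cfsg.Agent.S1082.result (F := ZMod 2)
  exact kill_of h (by omega) hself (prop2_D4.of_equiv (f.trans d.symm))

end Cfsg.Agent.H286.EP
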